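import Cfsg.Agent.Lib.H6.Co2M.GSDefs

set_option autoImplicit false
set_option maxRecDepth 100000

/-!
# Expansion of words in the five marked elements of `Co₂` into words in `s d v c t` (helper6, S2044)
-/

namespace Cfsg.Agent.Lib.H6.Co2M

/-- the word of a letter `a A b B c C d D e E` in the letters `s S d D v V c C t T` -/
def ex27 (x : ℕ) : List ℕ :=
  match x with
  | 0 => aW27 | 1 => invW10 aW27 | 2 => bW27 | 3 => invW10 bW27 | 4 => cW27 | 5 => invW10 cW27
  | 6 => [0] | 7 => [1] | 8 => [8, 0] | 9 => [1, 9] | _ => []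

/-- the expansion of a word -/
def exW (w : List ℕ) : List ℕ := (w.map ex27).flatten

section

variable {K : Type*} [Group K] (s d v c t : K)

theorem wv5_ex27 (x : ℕ) : wv5 s d v c t (ex27 x) =
    gl5 (wv5 s d v c t aW27) (wv5 s d v c t bW27) (wv5 s d v c t cW27) s (t * s) x := by
  by_cases h : x < 10
  · interval_cases x
    · rfl
    · exact wv5_invW10 s d v c t aW27
    · rfl
    · exact wv5_invW10 s d v c t bW27
    · rfl
    · exact wv5_invW10 s d v c t cW27
    · simp [ex27, wv5, gl5]
    · simp [ex27, wv5, gl5]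
    · simp [ex27, wv5, gl5]
    · simp [ex27, wv5, gl5]
  · have e1 : ex27 x = [] := by
      unfold ex27
      split <;> first | omega | rfl
    rw [e1, gl5_ge _ _ _ _ _ x (by omega)]
    rfl

theorem wv5_exW (w : List ℕ) : wv5 s d v c t (exW w) =
    wv5 (wv5 s d v c t aW27) (wv5 s d v c t bW27) (wv5 s d v c t cW27) s (t * s) w := by
  induction w with
  | nil => rfl
  | cons x w ih =>
    have h1 : exW (x :: w) = ex27 x ++ exW w := by
      unfold exW
      rw [List.map_cons, List.flatten_cons]
    rw [h1, wv5_append, ih, wv5_ex27, wv5_cons]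

end

/-- words in the five marked elements of `C2L` -/
theorem wv5_G (w : List ℕ) : wv5 aG bG cG dG eG w = wv5 sC dC vC cC tC (exW w) :=
  (wv5_exW sC dC vC cC tC w).symm

end Cfsg.Agent.Lib.H6.Co2M
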