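import Cfsg.Agent.Lib.H6.Co2M.Defs
import Cfsg.Agent.Lib.H6.Co2M.CA.Lists
import Cfsg.Agent.Lib.H6.Co2M.CB.Lists

set_option autoImplicit false
set_option maxRecDepth 100000

/-!
# The shapes of the exact relators of the `Co₂` certificates (helper6, S2044)

The exact relators of the certificate `CA` are words in the first four generators, `e ^ 11`, the relator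
`h e h⁻¹ = e ^ 3`, and the relators `e⁻¹ u e = u'` with `u` of order `7` or `11`; the exact relators of the certificate
`CB` are those of `CA` together with the symbol relators and the other central relators of `CA`.  Also the words of the
fusion relation.
-/

namespace Cfsg.Agent.Lib.H6.Co2M

open Subgroup

/-- the word of the element `h` with `h e h⁻¹ = e ^ 3` -/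
def hW5 : List ℕ := [6, 8, 6, 8, 6, 8, 6, 8, 6, 8, 6, 3, 1, 1, 3, 1, 3, 1, 4, 4, 3, 4, 7, 9, 7, 9, 7, 9, 7, 9, 7, 9, 7]

/-- the relator `h e h⁻¹ e⁻³` -/
def frob5W : List ℕ := hW5 ++ [8] ++ invW10 hW5 ++ [9, 9, 9]

/-- the relator `e⁻¹ u e u'⁻¹` -/
def cjW5 (p : List ℕ × List ℕ) : List ℕ := 9 :: p.1 ++ 8 :: invW10 p.2

/-- the pairs `(u, u')` of words in the first four generators, `u` of order `7`, with `e⁻¹ u e = u'` -/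
def cjL7 : List (List ℕ × List ℕ) := [([6, 5, 5, 6, 6], [7, 1, 5, 2, 7, 0, 0, 3, 7, 7]), ([7, 7, 4, 4, 7], [6, 6, 2, 1, 1, 6, 3, 4, 0, 6]), ([7, 5, 7, 3, 3, 0], [7, 3, 6, 1, 3, 7, 5, 1, 1, 6]), ([5, 3, 4, 6, 3, 0], [4, 0, 2, 7, 1, 2, 7, 0, 0, 5, 2]), ([4, 6, 4, 0, 5, 1], [2, 2, 5, 1, 3, 1, 2, 1, 6, 2, 2]), ([4, 4, 7, 7, 4, 2], [4, 4, 3, 7, 1, 6, 4, 1, 3, 5, 2, 4]), ([6, 5, 3, 4, 7, 2], [5, 1, 3, 5, 5, 6, 6, 1, 4, 3, 0]), ([1, 2, 7, 5, 2, 4], [0, 6, 6, 4, 2, 0, 5, 1, 6, 3, 6]), ([4, 7, 5, 3, 0, 5], [7, 1, 1, 7, 3, 6, 3, 3, 0, 3, 3]), ([3, 5, 6, 6, 5, 5], [5, 5, 1, 6, 1, 7, 4, 1, 7, 2, 5, 2]), ([4, 1, 2, 4, 6, 5], [4, 0, 3, 4, 0, 6, 5, 2, 2, 4, 3]), ([0, 4, 1, 5, 7, 5], [3, 0, 6,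 4, 2, 0, 2, 1, 7, 4, 4]), ([1, 2, 2, 6, 4, 6], [7, 0, 0, 4, 6, 2, 0, 7, 2, 6]), ([3, 6, 5, 2, 4, 7], [1, 2, 5, 0, 7, 7, 4, 4, 2, 0, 4]), ([2, 2, 0, 4, 7, 0, 0], [7, 2, 2, 0, 4, 7, 0, 0, 6]), ([2, 0, 7, 5, 0, 2, 0], [0, 4, 1, 3, 6, 3, 3, 4, 1]), ([3, 6, 4, 4, 7, 2, 0], [7, 3, 3, 1, 4, 4, 7, 1, 1, 7, 1]), ([7, 2, 7, 1, 3, 3, 0], [4, 4, 7, 5, 5, 2, 4, 1, 4, 0, 2]), ([6, 6, 6, 6, 6, 3, 0], [1, 3, 0, 0, 7, 2, 6, 3, 5, 5, 3]), ([5, 3, 7, 5, 7, 3, 0], [3, 6, 6, 0, 2, 6, 2, 0, 7, 0]), ([7, 3, 5, 0, 7, 4, 0], [6, 3, 4, 1, 2, 0, 6, 1, 1, 6, 0]), ([0, 7, 0, 6, 0, 5, 0], [4, 7, 2, 5, 7, 1, 4, 2, 6, 5, 6]), ([4, 4, 7, 7, 1, 5, 0], [1, 4, 0, 2, 6, 5, 2, 5, 7]), ([6, 1, 1, 4, 2, 5, 0], [4, 1,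 5, 3, 1, 1, 4, 1, 4, 6]), ([6, 5, 0, 5, 2, 5, 0], [0, 0, 0, 2, 4, 4, 2, 1, 3, 6]), ([3, 4, 4, 7, 2, 5, 0], [5, 0, 3, 6, 0, 6, 4, 3, 5, 3]), ([7, 3, 4, 7, 3, 5, 0], [4, 7, 2, 1, 4, 7, 1, 5]), ([2, 4, 4, 7, 5, 5, 0], [6, 4, 7, 1, 6, 0, 5, 3, 7, 5]), ([4, 3, 6, 2, 6, 5, 0], [2, 2, 7, 0, 2, 7, 7, 1, 7, 3]), ([6, 6, 5, 3, 6, 5, 0], [5, 6, 3, 1, 2, 0, 6, 6, 3, 3]), ([0, 3, 1, 1, 7, 5, 0], [4, 1, 7, 4, 6, 2, 1, 1, 3, 6, 5, 6]), ([0, 0, 2, 6, 3, 6, 0], [2, 5, 1, 6, 3, 0, 4, 3, 7, 7, 0]), ([2, 4, 3, 6, 3, 6, 0], [7, 2, 2, 7, 5, 2, 2, 7, 7, 0, 2]), ([6, 5, 6, 6, 1, 7, 0], [0, 3, 3, 0, 0, 6, 5, 1, 1]), ([4, 2, 1, 7, 1, 7, 0], [2, 7, 2, 1, 7, 4, 3, 7, 2, 4, 0]), ([5, 2, 5, 7, 1, 7, 0], [3,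 7, 5, 6, 6, 3, 4, 1, 6, 5]), ([7, 7, 1, 1, 2, 1, 1], [1, 2, 6, 6, 6, 1, 5, 3, 1]), ([1, 7, 2, 7, 3, 1, 1], [3, 0, 0, 6, 5, 0, 0, 0, 5, 7, 0]), ([6, 5, 0, 7, 4, 1, 1], [2, 1, 6, 1, 4, 3, 0, 0, 2, 1, 6]), ([3, 3, 6, 1, 5, 1, 1], [0, 4, 4, 2, 0, 4, 7, 2, 4, 0]), ([6, 2, 0, 2, 7, 1, 1], [7, 2, 2, 2, 5, 0, 4, 7, 3, 4]), ([6, 1, 3, 4, 7, 1, 1], [0, 4, 2, 2, 2, 5, 3, 6, 4, 1]), ([2, 5, 2, 5, 7, 1, 1], [6, 5, 0, 7, 0, 7, 2, 1, 7, 7, 1]), ([1, 4, 6, 0, 0, 2, 1], [2, 6, 5, 3, 0, 7, 3, 1, 2, 1, 2, 7]), ([2, 5, 7, 7, 2, 2, 1], [4, 0, 2, 7, 7, 1, 3, 4, 3, 1, 3]), ([7, 2, 7, 2, 4, 2, 1], [4, 7, 3, 5, 0, 3, 4, 2, 7, 5]), ([4, 7, 7, 2, 0, 3, 1], [0, 2, 7, 5, 3, 0, 5, 7, 3]), ([0, 7, 0, 6, 3, 4,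 1], [2, 0, 7, 4, 6, 6, 4, 0, 2, 7]), ([6, 3, 0, 5, 0, 5, 1], [4, 6, 4, 3, 0, 0, 5, 1, 2, 0, 4]), ([2, 0, 7, 7, 2, 5, 1], [4, 7, 0, 4, 1, 2, 4, 1, 7, 0, 2]), ([6, 1, 6, 4, 6, 5, 1], [3, 4, 4, 7, 5, 1, 3, 0, 3, 5]), ([5, 6, 1, 3, 7, 5, 1], [3, 6, 2, 6, 0, 0, 7, 2, 4, 0, 5]), ([0, 7, 4, 3, 7, 5, 1], [1, 4, 6, 5, 3, 3, 0, 0, 6, 1, 2]), ([1, 4, 1, 7, 1, 6, 1], [3, 7, 4, 7, 7, 4, 6, 0, 7, 2, 6]), ([0, 5, 2, 7, 1, 6, 1], [6, 3, 1, 5, 7, 7, 5, 6, 1, 3]), ([0, 4, 6, 2, 5, 6, 1], [3, 0, 6, 3, 6, 5, 2, 0, 0, 4, 3]), ([4, 1, 2, 5, 3, 7, 1], [0, 7, 2, 1, 6, 1, 5, 1, 4, 1, 6]), ([3, 5, 1, 1, 4, 7, 1], [5, 1, 4, 7, 0, 2, 6, 0, 2, 1, 3]), ([3, 1, 3, 3, 4, 7, 1], [2, 2, 1, 5, 1, 7, 2, 7, 2, 5]),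 ([5, 0, 7, 3, 0, 0, 2], [1, 2, 1, 7, 4, 1, 3, 0, 2, 5, 6]), ([4, 7, 1, 1, 2, 0, 2], [0, 7, 7, 5, 7, 5, 2, 1, 5, 5, 2]), ([0, 6, 5, 2, 2, 0, 2], [4, 3, 6, 3, 6, 0, 4, 0, 3, 3]), ([4, 6, 0, 2, 1, 1, 2], [6, 1, 2, 0, 4, 4, 7, 1, 3, 1, 6, 3]), ([4, 7, 7, 3, 1, 1, 2], [1, 3, 3, 4, 3, 0, 7, 7, 0, 0]), ([4, 7, 4, 0, 4, 1, 2], [0, 5, 7, 3, 7, 7, 0, 0, 3, 1]), ([5, 2, 7, 1, 5, 1, 2], [0, 3, 7, 2, 0, 0, 5, 1, 4, 4, 0]), ([6, 0, 2, 0, 2, 2, 2], [3, 5, 0, 2, 1, 5, 1, 1, 2, 6]), ([7, 7, 0, 2, 5, 2, 2], [6, 6, 4, 0, 7, 4, 6, 3, 0, 0, 0]), ([0, 0, 4, 0, 7, 2, 2], [1, 5, 5, 2, 7, 7, 3, 1, 6, 4]), ([5, 3, 3, 4, 7, 2, 2], [7, 3, 3, 3, 7, 3, 6, 5, 5, 7, 3]), ([0, 6, 5, 0, 0, 4, 2], [7, 5, 2, 2, 6,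 4, 0, 0, 6, 6, 0]), ([6, 4, 2, 1, 3, 4, 2], [5, 1, 3, 1, 2, 5, 2, 4, 0, 6]), ([6, 3, 4, 1, 1, 5, 2], [4, 4, 0, 3, 4, 0, 5, 2, 5, 6]), ([6, 6, 4, 1, 2, 5, 2], [2, 2, 0, 0, 2, 7, 1, 5, 2, 2]), ([3, 6, 2, 4, 2, 5, 2], [4, 0, 3, 1, 3, 3, 4, 6, 2, 1]), ([1, 4, 3, 6, 5, 5, 2], [2, 4, 2, 5, 7, 1, 7, 2, 1, 4]), ([6, 5, 3, 1, 2, 6, 2], [5, 7, 4, 4, 6, 6, 2, 7, 5, 6, 1]), ([6, 4, 7, 3, 3, 6, 2], [1, 5, 2, 1, 1, 7, 2, 2, 2, 0]), ([7, 4, 7, 3, 4, 6, 2], [6, 5, 0, 5, 7, 1, 2, 5, 1, 4, 7]), ([2, 2, 6, 5, 1, 7, 2], [6, 4, 7, 7, 5, 6, 2, 4, 4, 3, 3]), ([3, 4, 3, 5, 3, 7, 2], [0, 3, 7, 5, 2, 2, 0, 2, 1, 5]), ([6, 0, 5, 5, 3, 7, 2], [4, 1, 7, 7, 1, 1, 4, 3, 1]), ([4, 7, 5, 1, 5, 7, 2], [1, 3, 3,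 5, 3, 7, 7, 5, 1, 7, 3]), ([1, 3, 6, 5, 5, 7, 2], [0, 6, 0, 0, 6, 5, 5, 0, 2, 2, 6]), ([6, 0, 0, 5, 2, 1, 3], [2, 5, 2, 5, 0, 5, 1, 2, 6]), ([7, 7, 2, 1, 3, 1, 3], [3, 5, 5, 1, 7, 2, 4, 0, 0, 3, 3]), ([1, 3, 1, 4, 6, 1, 3], [0, 5, 2, 2, 7, 2, 0, 5, 1]), ([0, 4, 3, 6, 6, 1, 3], [7, 0, 3, 1, 7, 7, 0, 0, 3, 1, 7]), ([1, 1, 6, 5, 1, 3, 3], [7, 1, 1, 6, 5, 1, 3, 3, 6]), ([3, 6, 0, 4, 7, 3, 3], [2, 2, 5, 5, 3, 7, 4, 6, 6, 5, 7]), ([7, 1, 2, 7, 2, 4, 3], [5, 0, 7, 0, 5, 1, 6, 5, 0]), ([6, 0, 3, 1, 3, 4, 3], [1, 4, 0, 2, 1, 2, 4, 1, 1, 5, 6]), ([0, 0, 6, 4, 3, 4, 3], [3, 0, 5, 3, 1, 3, 4, 2, 7, 4, 1]), ([0, 3, 3, 6, 6, 4, 3], [2, 0, 2, 5, 2, 0, 6, 6, 3, 1, 5]), ([6, 5, 2, 6, 2, 5, 3], [0,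 6, 5, 2, 7, 2, 0, 7, 5, 6]), ([1, 7, 2, 7, 2, 5, 3], [3, 1, 6, 6, 3, 3, 4, 6, 3, 3, 6]), ([1, 4, 4, 6, 5, 5, 3], [4, 6, 2, 4, 1, 7, 0, 6, 5, 7]), ([4, 6, 3, 6, 6, 5, 3], [7, 0, 4, 4, 7, 3, 0, 3, 3, 4]), ([5, 5, 7, 4, 7, 5, 3], [1, 3, 7, 2, 1, 7, 0, 5, 7, 4]), ([6, 1, 7, 0, 2, 6, 3], [2, 0, 5, 3, 4, 6, 3, 1, 5, 7, 1]), ([6, 6, 6, 2, 6, 6, 3], [4, 0, 5, 7, 4, 3, 5, 2, 7, 7]), ([7, 7, 4, 2, 5, 1, 4], [5, 1, 4, 7, 2, 4, 4, 1, 1, 1, 3, 0]), ([3, 1, 1, 2, 6, 1, 4], [4, 4, 0, 2, 1, 1, 3, 1, 5, 7, 3]), ([7, 7, 3, 4, 0, 2, 4], [7, 7, 7, 3, 4, 0, 2, 4, 6]), ([5, 5, 0, 6, 0, 2, 4], [3, 3, 6, 3, 4, 1, 5, 2, 6, 4, 4]), ([3, 3, 6, 5, 2, 2, 4], [2, 6, 4, 4, 7, 2, 6, 2, 2, 2, 6]), ([1, 2, 6, 4,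 6, 2, 4], [1, 6, 1, 3, 7, 3, 1, 7, 7, 2]), ([6, 2, 6, 5, 1, 3, 4], [2, 0, 7, 3, 0, 3, 7, 3, 3, 0, 3]), ([1, 6, 0, 6, 4, 3, 4], [4, 7, 0, 5, 2, 7, 7, 4, 6, 2]), ([3, 0, 4, 0, 6, 3, 4], [1, 5, 5, 0, 4, 1, 1, 3, 6, 2, 1]), ([7, 4, 7, 0, 0, 4, 4], [4, 1, 7, 7, 1, 6, 3, 1, 5, 2, 5]), ([5, 3, 1, 7, 1, 4, 4], [1, 3, 5, 6, 5, 1, 6, 2, 2, 4, 7]), ([2, 4, 6, 5, 6, 4, 4], [5, 6, 4, 1, 6, 0, 3, 6, 2, 0]), ([0, 4, 6, 2, 0, 7, 4], [4, 6, 2, 6, 1, 1, 7, 0, 3, 4, 6]), ([7, 4, 4, 0, 4, 7, 4], [0, 3, 7, 5, 1, 2, 5, 2, 4, 0, 6]), ([0, 6, 2, 4, 3, 0, 5], [7, 0, 5, 0, 4, 0, 7, 0, 3, 6, 1]), ([6, 4, 6, 0, 0, 2, 5], [6, 4, 3, 6, 3, 3, 4, 0, 2, 7, 2]), ([4, 6, 3, 1, 1, 2, 5], [3, 5, 5, 2, 1, 7, 4, 4, 0,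 0, 4]), ([6, 6, 0, 0, 5, 2, 5], [5, 7, 5, 5, 0, 5, 2, 0, 7, 4]), ([1, 4, 7, 3, 7, 2, 5], [7, 0, 6, 1, 6, 5, 2, 4, 6, 6]), ([4, 6, 3, 4, 7, 2, 5], [7, 1, 5, 3, 6, 5, 7, 5, 0, 7, 0]), ([1, 6, 0, 6, 0, 3, 5], [1, 5, 3, 6, 2, 5, 6, 0, 3, 6, 3]), ([6, 5, 0, 4, 1, 3, 5], [0, 2, 2, 4, 1, 3, 6, 0, 4, 3, 1]), ([1, 4, 0, 6, 6, 5, 5], [6, 4, 3, 4, 7, 3, 1, 5, 0]), ([3, 1, 3, 0, 0, 6, 5], [3, 4, 4, 0, 3, 4, 6, 4, 6, 6, 1]), ([3, 6, 4, 0, 4, 6, 5], [2, 6, 0, 4, 6, 6, 5, 3, 5, 2, 0]), ([3, 0, 5, 1, 5, 6, 5], [0, 2, 1, 1, 6, 6, 2, 6, 4, 1]), ([3, 0, 0, 2, 6, 6, 5], [1, 1, 6, 6, 1, 2, 5, 2, 2, 0]), ([0, 2, 1, 3, 6, 6, 5], [2, 6, 4, 1, 2, 4, 6, 3, 1]), ([3, 0, 0, 3, 1, 7, 5], [5, 7, 4, 7, 3, 6,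 2, 1, 6, 6, 0, 0]), ([4, 3, 0, 0, 2, 7, 5], [3, 7, 2, 5, 1, 1, 3, 0, 3, 6, 2]), ([6, 6, 6, 4, 2, 7, 5], [0, 7, 7, 0, 6, 3, 5]), ([4, 3, 6, 5, 2, 7, 5], [1, 2, 2, 7, 3, 4, 7, 0, 2, 1, 5]), ([2, 4, 7, 7, 2, 7, 5], [5, 2, 2, 1, 2, 6, 5, 5, 1, 6]), ([6, 5, 3, 0, 3, 7, 5], [4, 4, 6, 2, 0, 0, 7, 7, 7, 0, 0]), ([6, 3, 0, 5, 5, 7, 5], [7, 1, 6, 1, 1, 6, 3, 3, 0, 7, 5]), ([2, 5, 3, 6, 3, 0, 6], [1, 4, 7, 0, 4, 1, 6, 1, 4]), ([7, 4, 4, 2, 6, 1, 6], [2, 0, 7, 2, 2, 5, 3, 1, 4, 1, 7, 0]), ([1, 5, 6, 1, 4, 2, 6], [1, 7, 0, 0, 7, 1, 3, 0, 5, 2, 7]), ([1, 4, 2, 6, 5, 2, 6], [4, 0, 6, 5, 0, 3, 6, 5]), ([1, 2, 2, 0, 6, 3, 6], [6, 6, 6, 0, 3, 4, 4, 3, 7, 0, 2]), ([7, 5, 7, 0, 6, 3, 6], [0, 7, 3,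 7, 0, 5, 1, 3, 7, 3, 5]), ([0, 3, 5, 3, 6, 3, 6], [4, 6, 3, 5, 2, 1, 4, 2, 6, 5]), ([7, 2, 7, 1, 6, 4, 6], [4, 2, 6, 2, 0, 4, 1, 6, 2, 6, 1]), ([5, 6, 5, 1, 5, 5, 6], [7, 3, 6, 5, 5, 2, 0, 3, 1, 4, 2]), ([7, 0, 7, 3, 5, 5, 6], [0, 4, 4, 1, 7, 7, 4, 1, 3, 7, 5, 1]), ([6, 4, 7, 0, 6, 5, 6], [5, 3, 4, 6, 2, 5, 7, 1, 1, 2, 6]), ([5, 5, 1, 1, 6, 5, 6], [4, 3, 4, 0, 2, 7, 0, 6, 6, 0, 5]), ([3, 7, 5, 2, 6, 5, 6], [7, 0, 7, 5, 3, 6, 4, 0, 2, 5, 2]), ([0, 0, 3, 0, 0, 6, 6], [0, 2, 4, 0, 7, 7, 7, 3, 0]), ([3, 3, 4, 3, 1, 6, 6], [1, 1, 1, 2, 7, 5, 6, 1, 5, 7, 7]), ([5, 3, 1, 5, 2, 6, 6], [7, 5, 3, 1, 5, 2, 6, 6, 6]), ([2, 0, 2, 0, 3, 6, 6], [3, 4, 3, 7, 0, 3, 5, 0, 5, 5, 7]), ([5, 0, 4, 3,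 5, 6, 6], [0, 6, 6, 3, 6, 1, 6, 0, 7, 5, 2, 4]), ([1, 4, 3, 5, 0, 0, 7], [7, 2, 1, 3, 0, 2, 1, 1, 2, 5]), ([0, 0, 6, 5, 2, 0, 7], [0, 5, 7, 2, 4, 3, 3, 3, 5, 1]), ([6, 6, 1, 2, 5, 0, 7], [6, 1, 1, 2, 2, 5, 3, 1, 1, 5, 5]), ([2, 7, 3, 1, 6, 0, 7], [0, 6, 4, 0, 2, 7, 5, 2, 4, 1, 3]), ([0, 4, 7, 5, 7, 0, 7], [3, 0, 7, 5, 2, 7, 2, 0, 6, 1]), ([2, 0, 3, 4, 1, 1, 7], [7, 3, 0, 4, 1, 4, 3, 4, 3]), ([2, 5, 2, 0, 2, 1, 7], [7, 3, 0, 5, 5, 2, 2, 1, 2, 1, 5]), ([3, 3, 3, 1, 3, 1, 7], [7, 3, 0, 0, 4, 0, 3, 1, 4, 2]), ([3, 6, 2, 4, 4, 1, 7], [0, 2, 5, 0, 0, 6, 6, 0, 5]), ([0, 4, 1, 4, 1, 2, 7], [1, 7, 5, 5, 0, 7, 1, 1, 2, 6, 1]), ([4, 6, 4, 4, 1, 2, 7], [4, 6, 1, 2, 2, 7, 0, 0, 7, 0, 6]), ([3,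 4, 0, 0, 5, 2, 7], [7, 4, 3, 4, 1, 5, 2, 1, 5, 5]), ([6, 5, 2, 7, 0, 3, 7], [3, 7, 7, 2, 2, 0, 2, 1, 6, 1, 3]), ([0, 0, 6, 3, 1, 3, 7], [5, 2, 6, 5, 1, 4, 3, 3, 3, 6]), ([5, 2, 0, 4, 7, 3, 7], [0, 2, 5, 7, 4, 1, 5, 2, 4, 7, 0]), ([1, 4, 3, 4, 1, 4, 7], [7, 2, 0, 3, 5, 5, 3, 1, 1, 1]), ([4, 2, 0, 5, 1, 4, 7], [5, 2, 0, 5, 5, 3, 1, 1, 5, 6, 5]), ([0, 0, 5, 6, 1, 4, 7], [7, 0, 3, 1, 1, 2, 5, 0, 7, 0, 3]), ([3, 7, 3, 0, 2, 4, 7], [0, 7, 4, 6, 3, 7, 7, 5, 5, 6, 4]), ([4, 6, 2, 1, 2, 4, 7], [1, 1, 6, 6, 6, 1, 1, 3, 7, 5, 5]), ([6, 2, 1, 6, 3, 4, 7], [0, 3, 3, 5, 5, 1, 6, 3, 4, 7, 5]), ([2, 4, 3, 7, 3, 4, 7], [7, 4, 6, 1, 3, 6, 3, 4, 7, 1]), ([1, 6, 0, 7, 7, 4, 7], [0, 0, 4, 7, 1, 1, 2,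 2, 1]), ([3, 5, 2, 0, 3, 5, 7], [7, 1, 5, 3, 4, 3, 0, 2, 0, 4]), ([7, 4, 7, 1, 6, 5, 7], [4, 7, 1, 2, 5, 0, 5, 3, 1, 3, 1]), ([3, 7, 2, 2, 6, 5, 7], [1, 3, 3, 3, 6, 0, 0, 3, 4, 0]), ([4, 3, 1, 1, 7, 5, 7], [5, 1, 6, 1, 5, 0, 6, 5, 5, 1, 2]), ([6, 1, 4, 3, 0, 7, 7], [3, 0, 5, 3, 0, 0, 4, 1, 2, 5, 7]), ([4, 3, 4, 1, 1, 7, 7], [7, 2, 5, 3, 3, 1, 2, 1, 1, 7]), ([1, 4, 7, 2, 4, 7, 7], [2, 2, 7, 7, 1, 3, 0, 2, 7, 4]), ([3, 4, 3, 0, 5, 7, 7], [3, 3, 4, 0, 6, 3, 1, 1, 3, 3]), ([2, 7, 7, 3, 7, 7, 7], [6, 6, 3, 4, 2, 5, 6, 4, 1, 5]), ([4, 6, 3, 5, 7, 7, 7], [4, 2, 7, 1, 6, 6, 1]), ([1, 2, 7, 7, 7, 7, 7], [2, 4, 4, 2, 7, 3, 6, 1, 1, 2, 0])]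

/-- the pairs `(u, u')` of words in the first four generators, `u` of order `11`, with `e⁻¹ u e = u'` -/
def cjL11 : List (List ℕ × List ℕ) := [([6, 3, 0, 3, 1], [2, 5, 5, 0, 4, 1, 2, 1, 3, 6]), ([0, 2, 1, 2, 7], [7, 2, 0, 3, 0, 5, 1, 4, 4, 3]), ([0, 6, 3, 0, 0, 0], [6, 6, 4, 7, 0, 5, 6, 1, 6, 1, 4]), ([0, 6, 5, 0, 5, 0], [1, 1, 6, 4, 7, 4, 4, 0, 4, 6]), ([4, 6, 2, 0, 4, 1], [0, 4, 3, 5, 5, 6, 4, 1, 4, 4, 1]), ([0, 6, 5, 3, 4, 1], [4, 4, 3, 0, 6, 0, 5, 1, 3, 0, 7]), ([1, 1, 1, 2, 7, 1], [5, 0, 7, 0, 7, 4, 1, 6, 5, 7, 7]), ([5, 0, 7, 3, 7, 1], [1, 4, 7, 1, 2, 5, 0, 3, 1, 1]), ([1, 4, 1, 4, 7, 1], [7, 5, 1, 5, 5, 6, 5, 7, 0, 0]), ([0, 5, 2, 4, 7, 1], [6, 1, 2, 0, 4, 1, 7, 1, 2, 5,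 5]), ([4, 1, 3, 4, 6, 2], [7, 2, 5, 3, 6, 4, 3, 7, 7, 5]), ([2, 2, 0, 7, 0, 3], [7, 2, 2, 7, 1, 1, 1, 3, 5, 7, 3]), ([2, 1, 6, 1, 3, 3], [7, 0, 2, 7, 7, 0, 2, 5, 1, 1, 1]), ([6, 2, 0, 3, 0, 4], [1, 1, 5, 1, 4, 3, 4, 1, 1, 6]), ([6, 5, 2, 5, 1, 4], [3, 0, 2, 2, 5, 1, 4, 4, 2, 5, 6]), ([0, 6, 2, 6, 1, 4], [0, 0, 2, 1, 4, 3, 0, 6, 5, 0]), ([6, 4, 7, 0, 0, 5], [5, 6, 2, 0, 2, 4, 7, 4, 4, 0]), ([3, 7, 5, 2, 0, 5], [4, 6, 6, 2, 5, 7, 2, 4, 3, 6]), ([6, 6, 5, 5, 2, 5], [2, 1, 4, 0, 2, 4, 6, 6, 6, 6]), ([0, 5, 1, 3, 7, 5], [0, 5, 2, 4, 1, 6, 6, 0, 7, 3, 5]), ([5, 1, 2, 1, 3, 7], [3, 7, 2, 6, 0, 6, 1, 5, 6, 1]), ([5, 0, 4, 3, 4, 7], [7, 4, 3, 5, 5, 0, 4, 3, 3, 1, 2]), ([4, 1, 1, 6, 5, 7],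 [1, 5, 5, 6, 5, 3, 1, 3, 7, 4]), ([4, 3, 4, 4, 7, 7], [7, 7, 7, 7, 5, 3, 1, 5, 0, 3]), ([6, 5, 1, 5, 3, 0, 0], [5, 3, 3, 1, 4, 1, 5, 1, 6]), ([0, 0, 6, 1, 5, 0, 0], [3, 3, 6, 5, 1, 3, 4, 3, 3, 1, 6]), ([2, 0, 3, 5, 7, 0, 0], [4, 0, 5, 0, 0, 6, 5, 0, 7, 2, 2]), ([3, 5, 0, 6, 5, 2, 0], [3, 0, 5, 6, 2, 0, 6, 1, 3, 3, 4]), ([1, 4, 6, 4, 3, 3, 0], [1, 1, 5, 2, 5, 3, 6, 1, 4, 6]), ([6, 4, 2, 1, 4, 3, 0], [6, 6, 3, 6, 4, 6, 1, 1, 3, 5, 1]), ([0, 5, 1, 5, 6, 3, 0], [4, 3, 4, 2, 1, 2, 0, 4, 4, 6]), ([4, 6, 2, 5, 6, 3, 0], [3, 5, 0, 5, 1, 4, 4, 1, 7, 5]), ([5, 6, 3, 6, 0, 5, 0], [3, 7, 5, 5, 6, 3, 0, 0, 0, 5, 5]), ([3, 3, 4, 0, 6, 5, 0], [0, 3, 4, 7, 2, 7, 4, 4, 2, 6]), ([4, 3, 4, 3, 6, 5,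 0], [4, 1, 7, 7, 3, 6, 1, 3, 1, 4]), ([1, 2, 2, 5, 7, 5, 0], [1, 1, 1, 2, 1, 7, 2, 0, 4, 2]), ([7, 5, 2, 4, 1, 6, 0], [4, 4, 0, 3, 0, 4, 6, 1, 3, 7, 1]), ([6, 5, 2, 6, 3, 1, 1], [6, 4, 4, 3, 6, 2, 5, 7, 7, 2, 4]), ([5, 1, 6, 2, 4, 1, 1], [4, 3, 3, 6, 0, 4, 4, 1, 5, 0, 3]), ([1, 1, 4, 0, 7, 1, 1], [7, 0, 2, 2, 5, 2, 0, 4, 7, 2, 2]), ([6, 2, 5, 7, 5, 3, 1], [5, 5, 1, 1, 4, 2, 0, 3, 4, 7]), ([3, 6, 5, 0, 0, 4, 1], [3, 3, 0, 7, 4, 0, 5, 3, 7, 0, 7]), ([1, 2, 7, 4, 0, 4, 1], [7, 5, 5, 1, 3, 0, 3, 5, 2, 5]), ([7, 2, 7, 3, 3, 4, 1], [2, 4, 6, 6, 4, 0, 2, 1, 4, 1, 3]), ([2, 2, 7, 4, 6, 4, 1], [4, 0, 7, 1, 3, 7, 0, 3, 0, 0, 3]), ([2, 5, 7, 1, 6, 5, 1], [6, 3, 7, 1, 4, 7, 0, 0, 3, 0, 7]),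 ([0, 6, 5, 7, 1, 6, 1], [5, 3, 0, 0, 4, 0, 6, 5, 2, 0]), ([2, 2, 6, 4, 1, 7, 1], [0, 3, 4, 3, 5, 0, 7, 2, 1, 2]), ([4, 7, 5, 5, 3, 7, 1], [7, 3, 7, 1, 1, 6, 6, 3, 6, 1, 3]), ([0, 7, 0, 6, 4, 7, 1], [1, 3, 4, 7, 1, 5, 1, 1, 2, 4]), ([6, 6, 3, 5, 5, 0, 2], [4, 6, 4, 0, 2, 6, 6, 0, 0, 0, 3]), ([6, 2, 1, 5, 7, 1, 2], [0, 0, 5, 6, 1, 7, 1, 1, 7, 3, 5, 5]), ([3, 7, 1, 3, 4, 2, 2], [7, 4, 6, 3, 5, 2, 1, 2, 7, 5, 0]), ([1, 4, 7, 1, 5, 2, 2], [7, 3, 5, 5, 6, 3, 6, 5, 2, 1]), ([2, 1, 2, 7, 1, 4, 2], [5, 6, 4, 2, 0, 6, 1, 1, 7, 0, 0]), ([1, 3, 4, 7, 1, 4, 2], [5, 1, 3, 1, 6, 6, 3, 7, 1, 1, 2]), ([3, 6, 1, 2, 2, 5, 2], [1, 4, 3, 5, 1, 7, 1, 3, 3]), ([3, 3, 5, 2, 0, 6, 2], [1, 4, 6, 3, 0, 3,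 4, 2, 7, 5, 6]), ([7, 1, 2, 6, 2, 6, 2], [0, 7, 0, 3, 1, 3, 3, 1, 7, 0, 0]), ([7, 2, 2, 5, 6, 6, 2], [7, 4, 7, 0, 2, 2, 4, 7, 7, 7]), ([3, 4, 3, 3, 0, 7, 2], [2, 2, 0, 6, 0, 4, 2, 5, 0]), ([2, 6, 5, 7, 0, 7, 2], [4, 2, 5, 0, 6, 2, 2, 0, 2, 4, 7]), ([6, 6, 3, 4, 1, 7, 2], [4, 3, 6, 0, 6, 1, 2, 1, 5, 6, 0]), ([0, 5, 1, 1, 4, 7, 2], [5, 1, 4, 3, 4, 7, 4, 0, 6, 2, 6]), ([4, 1, 2, 1, 5, 7, 2], [6, 1, 2, 7, 5, 2, 4, 0, 4, 4, 6]), ([3, 5, 0, 6, 3, 0, 3], [7, 5, 0, 2, 0, 3, 4, 0, 4, 4, 1]), ([6, 2, 6, 3, 7, 0, 3], [0, 3, 1, 1, 1, 3, 6, 5, 0]), ([7, 2, 7, 7, 1, 1, 3], [5, 3, 6, 1, 1, 5, 3, 3, 1, 7, 1]), ([5, 0, 7, 0, 2, 1, 3], [0, 3, 0, 4, 3, 5, 2, 1, 7, 0, 4]), ([1, 1, 6, 4, 2, 1, 3], [3,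 3, 6, 1, 4, 7, 1, 1, 4, 1, 5]), ([7, 2, 7, 4, 4, 1, 3], [7, 4, 0, 0, 4, 7, 7, 1, 7, 2]), ([5, 0, 7, 3, 4, 3, 3], [1, 7, 5, 7, 7, 0, 6, 6, 2, 0]), ([0, 5, 7, 5, 6, 3, 3], [2, 1, 1, 2, 1, 6, 2, 0, 6, 1, 5]), ([0, 6, 0, 5, 7, 3, 3], [3, 0, 3, 6, 1, 4, 2, 5, 2, 1]), ([0, 4, 7, 0, 6, 4, 3], [1, 7, 2, 6, 6, 4, 2, 0, 4, 1, 1]), ([2, 6, 5, 5, 7, 4, 3], [0, 0, 2, 4, 3, 5, 7, 3, 3, 5, 0]), ([5, 2, 2, 7, 7, 4, 3], [7, 5, 0, 4, 0, 0, 6, 0, 4, 0, 6]), ([5, 0, 4, 6, 2, 5, 3], [1, 1, 6, 5, 7, 3, 5, 2, 0, 3, 4]), ([4, 6, 6, 0, 6, 5, 3], [6, 5, 1, 4, 1, 3, 1, 6, 6, 3]), ([4, 0, 7, 4, 7, 5, 3], [7, 7, 7, 4, 0, 4, 2, 5, 2, 1, 2]), ([4, 0, 3, 7, 1, 7, 3], [4, 3, 4, 6, 6, 4, 1, 1, 3, 4, 3]), ([5, 5,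 3, 7, 1, 7, 3], [5, 6, 4, 6, 3, 7, 4, 7, 2, 6, 6]), ([2, 5, 6, 4, 4, 7, 3], [2, 6, 1, 4, 1, 6, 3, 1, 7, 1, 2]), ([3, 6, 1, 6, 4, 7, 3], [6, 5, 3, 1, 3, 3, 7, 1, 4, 3, 5]), ([6, 2, 4, 0, 0, 0, 4], [5, 1, 1, 7, 2, 4, 1, 5, 2, 4]), ([4, 3, 0, 6, 0, 0, 4], [4, 2, 5, 0, 6, 1, 1, 3, 1, 6, 5]), ([0, 0, 5, 3, 7, 0, 4], [6, 5, 3, 7, 4, 4, 1, 1, 6, 1, 1]), ([7, 1, 6, 4, 2, 1, 4], [5, 5, 6, 6, 1, 6, 0, 0, 2, 6, 6]), ([6, 0, 4, 7, 4, 1, 4], [6, 2, 5, 6, 1, 2, 4, 2, 6, 6, 3]), ([6, 2, 1, 6, 5, 1, 4], [4, 4, 1, 7, 0, 5, 2, 1, 5, 1, 1]), ([2, 4, 3, 7, 5, 1, 4], [5, 2, 1, 3, 4, 2, 6, 4, 7, 0, 0]), ([2, 0, 3, 1, 6, 1, 4], [7, 1, 6, 3, 3, 0, 2, 0, 7, 4, 7]), ([2, 2, 5, 2, 6, 1, 4], [1, 3, 7, 7, 1,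 6, 6, 4, 6, 0]), ([4, 7, 0, 2, 2, 2, 4], [3, 7, 4, 3, 7, 5, 6, 3, 3, 3]), ([6, 5, 1, 6, 2, 2, 4], [0, 5, 2, 4, 4, 2, 7, 0, 4, 1, 2]), ([6, 6, 6, 6, 5, 2, 4], [6, 2, 4, 4, 0, 2, 7, 1, 7, 7, 4]), ([7, 0, 3, 5, 7, 2, 4], [3, 5, 1, 3, 5, 5, 0, 2, 5, 7]), ([6, 2, 0, 0, 3, 3, 4], [5, 5, 3, 4, 3, 4, 4, 3, 4, 6]), ([2, 5, 6, 6, 3, 3, 4], [7, 1, 5, 1, 7, 1, 1, 5, 1, 4, 6]), ([7, 3, 1, 6, 4, 3, 4], [4, 7, 7, 0, 6, 5, 1, 4, 2]), ([6, 0, 2, 4, 6, 3, 4], [6, 4, 0, 3, 0, 3, 6, 2, 4, 7, 5]), ([2, 6, 0, 6, 2, 4, 4], [7, 7, 3, 6, 5, 6, 2, 7, 5, 7, 4]), ([4, 0, 7, 4, 6, 6, 4], [1, 2, 4, 6, 4, 1, 7, 1, 6, 0, 6]), ([1, 4, 1, 7, 2, 7, 4], [2, 0, 6, 3, 4, 6, 0, 3, 0, 7, 3]), ([3, 6, 4, 0, 3, 0, 5], [7,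 5, 5, 1, 5, 3, 4, 6, 3, 0, 7]), ([7, 4, 4, 6, 1, 1, 5], [7, 1, 4, 4, 3, 5, 0, 3, 5, 5, 7]), ([2, 6, 0, 6, 2, 1, 5], [0, 3, 6, 5, 7, 5, 1, 1, 4, 3, 4]), ([2, 4, 6, 5, 6, 1, 5], [3, 0, 3, 4, 3, 5, 1, 5, 6, 6, 6]), ([5, 7, 7, 5, 6, 1, 5], [6, 3, 6, 6, 1, 1, 7, 1, 5, 2, 0]), ([5, 1, 1, 7, 1, 2, 5], [4, 7, 0, 2, 0, 0, 7, 1, 4, 3, 5]), ([1, 4, 7, 2, 5, 2, 5], [5, 0, 2, 0, 7, 2, 6, 6, 0, 5]), ([7, 3, 1, 6, 0, 3, 5], [1, 1, 2, 7, 1, 6, 1, 2, 1, 4, 7]), ([7, 5, 7, 4, 3, 3, 5], [2, 2, 6, 6, 4, 0, 5, 1, 1, 7, 3]), ([6, 4, 1, 5, 3, 3, 5], [4, 4, 1, 2, 5, 7, 3, 1, 1]), ([5, 3, 3, 3, 1, 6, 5], [2, 2, 2, 7, 4, 6, 2, 5, 6, 2]), ([7, 4, 7, 2, 4, 6, 5], [4, 2, 7, 7, 4, 4, 2, 5, 7]), ([0, 6, 2, 4,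 4, 6, 5], [2, 0, 7, 2, 7, 7, 0, 0, 6, 2, 6]), ([1, 2, 7, 4, 3, 7, 5], [4, 6, 0, 5, 5, 0, 4, 1, 4, 2]), ([2, 4, 7, 1, 7, 7, 5], [2, 7, 7, 0, 2, 0, 5, 0, 4, 7]), ([3, 7, 3, 7, 3, 0, 6], [1, 1, 6, 0, 2, 2, 0, 2, 1, 6, 1]), ([5, 0, 3, 5, 7, 0, 6], [5, 1, 6, 4, 1, 3, 3, 1, 4, 7, 7]), ([5, 3, 6, 4, 2, 1, 6], [6, 4, 3, 1, 4, 4, 2, 0, 4, 2]), ([6, 5, 7, 7, 5, 1, 6], [6, 0, 0, 6, 5, 5, 6, 3, 1, 7, 3]), ([4, 2, 1, 7, 0, 2, 6], [6, 3, 1, 5, 0, 2, 2, 2, 7, 2, 7]), ([5, 2, 5, 7, 0, 2, 6], [3, 5, 0, 4, 7, 1, 6, 6, 5]), ([7, 5, 7, 1, 7, 2, 6], [2, 4, 0, 0, 6, 6, 1, 1, 2, 7, 7]), ([3, 7, 7, 4, 3, 3, 6], [6, 6, 6, 5, 3, 3, 1, 6, 5, 6]), ([0, 5, 2, 2, 6, 3, 6], [2, 0, 5, 0, 3, 1, 5, 7, 7, 5, 3]),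 ([2, 0, 5, 5, 6, 3, 6], [3, 6, 0, 6, 6, 5, 1, 1, 5, 6]), ([2, 0, 0, 6, 6, 3, 6], [7, 7, 4, 3, 4, 7, 2, 1, 1, 4, 4]), ([1, 7, 0, 5, 3, 4, 6], [4, 4, 7, 7, 0, 6, 5, 1, 3, 1, 3]), ([7, 3, 6, 0, 6, 4, 6], [6, 6, 3, 0, 0, 7, 7, 1, 1, 5, 3]), ([4, 2, 2, 5, 6, 4, 6], [0, 4, 2, 0, 4, 7, 4, 2, 2, 7, 1]), ([4, 0, 0, 7, 5, 5, 6], [5, 7, 2, 4, 0, 7, 0, 5, 3, 3, 0]), ([4, 7, 5, 3, 6, 5, 6], [6, 4, 3, 5, 5, 6, 6, 3, 5]), ([5, 2, 7, 5, 3, 1, 7], [2, 5, 2, 4, 0, 7, 0, 0, 0, 7, 4]), ([5, 0, 5, 6, 5, 1, 7], [0, 5, 7, 5, 5, 7, 2, 5, 1, 6, 6]), ([3, 0, 6, 4, 0, 3, 7], [6, 1, 7, 5, 1, 3, 3, 0, 4, 4, 7, 1]), ([5, 0, 4, 7, 0, 3, 7], [1, 6, 1, 5, 7, 4, 7, 4, 6, 6, 5]), ([5, 2, 2, 1, 1, 3, 7], [7, 5, 2,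 5, 5, 2, 5, 2, 4, 4]), ([0, 2, 4, 6, 4, 3, 7], [6, 5, 2, 1, 3, 5, 0, 0, 4, 4]), ([5, 1, 1, 1, 5, 3, 7], [5, 3, 4, 0, 5, 3, 6, 0, 0, 4]), ([2, 1, 6, 2, 7, 3, 7], [1, 4, 7, 2, 0, 0, 0, 2, 1]), ([1, 1, 2, 4, 0, 4, 7], [7, 0, 4, 0, 5, 0, 2, 2, 4]), ([5, 3, 3, 7, 0, 4, 7], [3, 0, 5, 1, 6, 3, 5, 5, 3, 4, 1]), ([6, 6, 4, 3, 1, 4, 7], [6, 3, 1, 5, 1, 5, 5, 0, 5, 2]), ([0, 0, 2, 7, 3, 4, 7], [5, 3, 6, 6, 4, 3, 7, 2, 5, 5, 7]), ([7, 0, 4, 6, 6, 4, 7], [2, 6, 0, 2, 7, 4, 4, 7, 1, 1, 7]), ([4, 2, 2, 4, 0, 5, 7], [0, 0, 2, 6, 4, 3, 0, 5, 5]), ([6, 6, 6, 3, 1, 5, 7], [6, 3, 6, 2, 5, 0, 4, 0, 6, 4, 1]), ([1, 2, 5, 0, 3, 5, 7], [7, 2, 2, 1, 5, 2, 5, 3, 0, 5, 3]), ([3, 1, 4, 4, 2, 7, 7], [2, 1,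 1, 1, 7, 7, 3, 1, 5, 7, 5]), ([3, 6, 0, 5, 2, 7, 7], [1, 7, 4, 0, 3, 0, 7, 1, 7, 2, 5]), ([6, 5, 0, 2, 5, 7, 7], [3, 4, 1, 4, 4, 0, 4, 0, 2, 7]), ([6, 4, 0, 2, 7, 7, 7], [5, 0, 0, 2, 4, 3, 0, 3, 1, 7, 7]), ([5, 3, 4, 7, 7, 7, 7], [5, 6, 6, 0, 6, 3, 1, 5, 5, 3, 7])]

/-- the commutator word -/
def commW5 (u v : List ℕ) : List ℕ := u ++ v ++ invW10 u ++ invW10 v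

/-- the word of the fusing element `g` -/
def fgW : List ℕ := [9, 6, 2, 9, 5, 7, 0, 8, 6, 6, 3, 6]
/-- the words of the fusion relation -/
def fuW : List ℕ := [5, 0, 2, 4, 1, 4]
/-- the words of the fusion relation -/
def fvW : List ℕ := [5, 2, 2, 0, 5, 1, 3]
/-- the words of the fusion relation -/
def fuW' : List ℕ := [5, 0, 3, 4, 1, 5, 1]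
/-- the words of the fusion relation -/
def fvW' : List ℕ := [0, 0, 0, 2, 2, 2, 0, 0, 2, 5, 3]

/-- the pairs of the fusion relation -/
def fusL5 : List (List ℕ × List ℕ) := [(fuW, fuW'), (fvW, fvW')]

/-- the relator `g⁻¹ u g u'⁻¹` -/
def fusW5 (p : List ℕ × List ℕ) : List ℕ := invW10 fgW ++ p.1 ++ fgW ++ invW10 p.2

section shapes

variable {K : Type*} [Group K] (x y z t s : K)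

theorem frob5_iff : wv5 x y z t s frob5W = 1 ↔
    wv5 x y z t s hW5 * s * (wv5 x y z t s hW5)⁻¹ = s ^ 3 := by
  have h : wv5 x y z t s frob5W = wv5 x y z t s hW5 * s * (wv5 x y z t s hW5)⁻¹ * (s ^ 3)⁻¹ := by
    unfold frob5W
    rw [wv5_append, wv5_append, wv5_append, wv5_invW10]
    have h1 : wv5 x y z t s [8] = s := by simp [wv5, gl5]
    have h2 : wv5 x y z t s [9, 9, 9] = (s ^ 3)⁻¹ := by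
      have := wv5_replicate9 x y z t s 3
      rw [inv_pow] at this
      exact this
    rw [h1, h2]
  rw [h, mul_inv_eq_one]

theorem cjW5_val (p : List ℕ × List ℕ) :
    wv5 x y z t s (cjW5 p) = s⁻¹ * wv5 x y z t s p.1 * s * (wv5 x y z t s p.2)⁻¹ := by
  unfold cjW5
  rw [wv5_append, wv5_cons, wv5_cons, wv5_invW10]
  have h9 : gl5 x y z t s 9 = s⁻¹ := rfl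
  have h8 : gl5 x y z t s 8 = s := rfl
  rw [h9, h8]
  group

theorem commW5_val (u v : List ℕ) :
    wv5 x y z t s (commW5 u v) =
      wv5 x y z t s u * wv5 x y z t s v * (wv5 x y z t s u)⁻¹ * (wv5 x y z t s v)⁻¹ := by
  unfold commW5
  rw [wv5_append, wv5_append, wv5_append, wv5_invW10, wv5_invW10]

theorem fusW5_val (p : List ℕ × List ℕ) :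
    wv5 x y z t s (fusW5 p) =
      (wv5 x y z t s fgW)⁻¹ * wv5 x y z t s p.1 * wv5 x y z t s fgW * (wv5 x y z t s p.2)⁻¹ := by
  unfold fusW5
  rw [wv5_append, wv5_append, wv5_append, wv5_invW10, wv5_invW10]

/-- a word in the first three generators -/
theorem wv5_eq_wv3 (w : List ℕ) (h : ∀ i ∈ w, i < 6) :
    wv5 x y z t s w = U43M.wv x y z w := by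
  rw [wv5_eq_wv4 x y z t s w (fun i hi => Nat.lt_of_lt_of_le (h i hi) (by norm_num)),
    McLM.wv_eq_wv3 x y z t w h]

end shapes

theorem exact5_cases : ∀ w ∈ CA.exactL, (∀ i ∈ w, i < 8) ∨ w = List.replicate 11 8 ∨ w = frob5W ∨
    ∃ p ∈ cjL7 ++ cjL11, w = cjW5 p := by
  decide +kernel

theorem cjL5_lt : ∀ p ∈ cjL7 ++ cjL11, (∀ i ∈ p.1, i < 8) ∧ (∀ i ∈ p.2, i < 8) := by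
  decide +kernel

theorem fusL5_lt : ∀ p ∈ fusL5, (∀ i ∈ p.1, i < 6) ∧ (∀ i ∈ p.2, i < 6) := by
  decide

theorem cjL5_mem : ∀ p ∈ cjL7 ++ cjL11, cjW5 p ∈ CA.exactL := by
  decide +kernel

theorem e11_mem : List.replicate 11 8 ∈ CA.exactL := by
  decide +kernel

theorem frob5_mem : frob5W ∈ CA.exactL := by
  decide +kernel

theorem exactB_cases : ∀ w ∈ CB.exactL, w ∈ CA.exactL ∨ w ∈ CA.symL ++ CA.cenL := by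
  decide +kernel

theorem exactA_sub : ∀ w ∈ CA.exactL, w ∈ CB.exactL := by
  decide +kernel

theorem symA_sub : ∀ w ∈ CA.symL ++ CA.cenL, w ∈ CB.exactL := by
  decide +kernel

theorem fcomm5_lt : ∀ w ∈ [commW5 fuW fvW, commW5 fuW' fvW'], ∀ i ∈ w, i < 6 := by
  decide

end Cfsg.Agent.Lib.H6.Co2M
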