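import Cfsg.Agent.Lib.H6.Co2M.Words5
import Cfsg.Agent.Lib.H6.McLM.Main

set_option autoImplicit false
set_option maxRecDepth 100000

/-!
# The data of the Conway group `Co₂` for the multiplier computation (helper6, S2044)

`Base5 am bm cm dm em`: five generators of a group `G` of order `42305421312000`; `am bm cm dm` generate a subgroup
carrying the McLaughlin data `McLM.Base4`, all five satisfy the relators of the second certificate (`Lib/H6/Co2M/CB`),
the words `u` of the relators `e⁻¹ u e = u'` have order `7` or `11`, and the fusion relation holds.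
-/

namespace Cfsg.Agent.Lib.H6.Co2M

open Subgroup

/-- the data on the group `G` -/
structure Base5 {G : Type} [Group G] (am bm cm dm em : G) : Prop where
  base4 : McLM.Base4 (aS am bm cm dm) (bS am bm cm dm) (cS am bm cm dm) (dS am bm cm dm)
  rel5 : ∀ w ∈ CB.exactL, wv5 am bm cm dm em w = 1
  ord7 : ∀ p ∈ cjL7, wv5 am bm cm dm em p.1 ^ 7 = 1
  ord11 : ∀ p ∈ cjL11, wv5 am bm cm dm em p.1 ^ 11 = 1
  fus : ∀ p ∈ fusL5, wv5 am bm cm dm em (fusW5 p) = 1
  fcomm1 : wv5 am bm cm dm em (commW5 fuW fvW) = 1
  fcomm2 : wv5 am bm cm dm em (commW5 fuW' fvW') = 1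
  gen : closure {am, bm, cm, dm, em} = ⊤
  card : Nat.card G = 42305421312000

variable {G : Type} [Group G] {am bm cm dm em : G}

theorem Base5.finite (B : Base5 am bm cm dm em) : Finite G :=
  Nat.finite_of_card_ne_zero (by rw [B.card]; norm_num)

theorem Base5.exactA (B : Base5 am bm cm dm em) : ∀ w ∈ CA.exactL, wv5 am bm cm dm em w = 1 :=
  fun w hw => B.rel5 w (exactA_sub w hw)

theorem Base5.symA (B : Base5 am bm cm dm em) : ∀ w ∈ CA.symL ++ CA.cenL, wv5 am bm cm dm em w = 1 :=
  fun w hw => B.rel5 w (symA_sub w hw)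

theorem Base5.e11 (B : Base5 am bm cm dm em) : em ^ 11 = 1 := by
  have h := B.exactA (List.replicate 11 8) e11_mem
  rwa [wv5_replicate8] at h

theorem Base5.frob (B : Base5 am bm cm dm em) :
    wv5 am bm cm dm em hW5 * em * (wv5 am bm cm dm em hW5)⁻¹ = em ^ 3 :=
  (frob5_iff am bm cm dm em).1 (B.exactA frob5W frob5_mem)

theorem Base5.a7 (B : Base5 am bm cm dm em) : am ^ 7 = 1 := by
  have h := congrArg (HS4 am bm cm dm).subtype B.base4.a7
  simpa [aS] using h

theorem Base5.a_ne (B : Base5 am bm cm dm em) : am ≠ 1 := by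
  intro h
  apply B.base4.a_ne
  apply Subtype.ext
  exact h

theorem Base5.d11 (B : Base5 am bm cm dm em) : dm ^ 11 = 1 := by
  have h := congrArg (HS4 am bm cm dm).subtype B.base4.d11
  simpa [dS] using h

theorem Base5.d_ne (B : Base5 am bm cm dm em) : dm ≠ 1 := by
  intro h
  apply B.base4.d_ne
  apply Subtype.ext
  exact h

theorem Base5.cardH (B : Base5 am bm cm dm em) :
    Nat.card (closure ({am, bm, cm, dm} : Set G)) = 898128000 := B.base4.card

end Cfsg.Agent.Lib.H6.Co2M

namespace Cfsg.Agent.Lib.H6.McLM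

open Subgroup

variable {G : Type} [Group G] {am bm cm dm : G}

/-- a group with the McLaughlin data is perfect -/
theorem Base4.perfect (B : Base4 am bm cm dm) : commutator G = ⊤ := by
  obtain ⟨m1, m2, m3⟩ := U43M.mem_commutator_of_exact am bm cm
    (fun w hw => B.rel1 w (List.mem_append_left _ hw))
    (fun w hw => B.rel2 w (List.mem_append_left _ hw))
  have m4 : dm ∈ commutator G := mem_commutator_of_frob _ dm B.d11 B.frob
  rw [eq_top_iff, ← B.gen, closure_le]
  intro g hg
  simp only [Set.mem_insert_iff, Set.mem_singleton_iff] at hg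
  rcases hg with rfl | rfl | rfl | rfl
  · exact m1
  · exact m2
  · exact m3
  · exact m4

end Cfsg.Agent.Lib.H6.McLM
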