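import Cfsg.Agent.Lib.H6.Co2M.Defs
import Cfsg.Agent.Lib.H6.Co2M.CB.Run
import Cfsg.Agent.Lib.H6.Co2M.CB.Lists

set_option autoImplicit false
set_option maxRecDepth 100000

/-!
# The second monomial certificate of `Co₂` applied to a group with five marked elements (helper6, S2044)

`SettingB ga gb gc gd ge`: the relators of the certificate `CB` hold for `ga gb gc gd ge`, which generate.  Conclusion:
`⟨ga, gb, gc, gd⟩` has at most `47104` cosets.  (The certificate has no symbols: the twists are trivial.)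
-/

namespace Cfsg.Agent.Lib.H6.Co2M

open Cfsg.Agent.Lib.H17.CosetCert (WT act)
open Cfsg.Agent.Lib.H17.MonoCert
open Cfsg.Agent.Lib.H6.McLM (act_inv' commGroupOfCentral)

section

variable {Γ : Type*} [Group Γ] (ga gb gc gd ge : Γ)

/-- the hypotheses -/
structure SettingB : Prop where
  exact : ∀ w ∈ CB.exactL, wv5 ga gb gc gd ge w = 1
  gen : Subgroup.closure {ga, gb, gc, gd, ge} = ⊤

theorem wv5_pairB : ∀ w ∈ CB.pairL, wv5 ga gb gc gd ge w = 1 := by
  intro w hw
  simp only [CB.pairL, List.mem_cons, List.not_mem_nil, or_false] at hw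
  rcases hw with rfl | rfl | rfl | rfl | rfl | rfl | rfl | rfl | rfl | rfl <;> simp [wv5, gl5]

variable {ga gb gc gd ge}

theorem SettingB.rel_all (S : SettingB ga gb gc gd ge) :
    ∀ w ∈ CB.relL, wv5 ga gb gc gd ge w = 1 := by
  intro w hw
  rcases CB.rel_cases w hw with h | h
  · rcases List.mem_append.mp h with h1 | h1
    · exact S.exact w h1
    · exact wv5_pairB ga gb gc gd ge w h1
  · simp [CB.symL, CB.cenL] at h

end

section main

variable {Γ : Type*} [Group Γ] {ga gb gc gd ge : Γ}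

theorem bot_central : (⊥ : Subgroup Γ) ≤ Subgroup.center Γ := bot_le

theorem smulCommB :
    SMulCommClass Γ (⊥ : Subgroup Γ) (Γ ⧸ Subgroup.closure {ga, gb, gc, gd}) := by
  constructor
  intro x a q
  have ha : (a : Γ) = 1 := Subgroup.mem_bot.mp a.2
  change x • ((a : Γ) • q) = (a : Γ) • (x • q)
  rw [ha, one_smul, one_smul]

theorem gens_topB (S : SettingB ga gb gc gd ge) :
    Subgroup.closure {g : Γ | ∃ x < 10, g = (gl5 ga gb gc gd ge x)⁻¹} = ⊤ := by
  rw [eq_top_iff, ← S.gen, Subgroup.closure_le]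
  intro g hg
  simp only [Set.mem_insert_iff, Set.mem_singleton_iff] at hg
  apply Subgroup.subset_closure
  rcases hg with rfl | rfl | rfl | rfl | rfl
  · exact ⟨1, by norm_num, by simp [gl5]⟩
  · exact ⟨3, by norm_num, by simp [gl5]⟩
  · exact ⟨5, by norm_num, by simp [gl5]⟩
  · exact ⟨7, by norm_num, by simp [gl5]⟩
  · exact ⟨9, by norm_num, by simp [gl5]⟩

theorem letters_invB : ∀ x < 10, ∃ y < 10,
    (gl5 ga gb gc gd ge y)⁻¹ = ((gl5 ga gb gc gd ge x)⁻¹)⁻¹ := by
  intro x hx
  interval_cases x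
  · exact ⟨1, by norm_num, by simp [gl5]⟩
  · exact ⟨0, by norm_num, by simp [gl5]⟩
  · exact ⟨3, by norm_num, by simp [gl5]⟩
  · exact ⟨2, by norm_num, by simp [gl5]⟩
  · exact ⟨5, by norm_num, by simp [gl5]⟩
  · exact ⟨4, by norm_num, by simp [gl5]⟩
  · exact ⟨7, by norm_num, by simp [gl5]⟩
  · exact ⟨6, by norm_num, by simp [gl5]⟩
  · exact ⟨9, by norm_num, by simp [gl5]⟩
  · exact ⟨8, by norm_num, by simp [gl5]⟩

theorem sub_memB : ∀ wd ∈ CB.subL, (List.map (gl5 ga gb gc gd ge) wd).prod ∈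
    Subgroup.closure {ga, gb, gc, gd} := by
  intro wd hsub
  simp only [CB.subL, List.mem_cons, List.not_mem_nil, or_false] at hsub
  rcases hsub with rfl | rfl | rfl | rfl
  · simp only [List.map_cons, List.map_nil, List.prod_cons, List.prod_nil, mul_one, gl5]
    exact Subgroup.subset_closure (by simp)
  · simp only [List.map_cons, List.map_nil, List.prod_cons, List.prod_nil, mul_one, gl5]
    exact Subgroup.subset_closure (by simp)
  · simp only [List.map_cons, List.map_nil, List.prod_cons, List.prod_nil, mul_one, gl5]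
    exact Subgroup.subset_closure (by simp)
  · simp only [List.map_cons, List.map_nil, List.prod_cons, List.prod_nil, mul_one, gl5]
    exact Subgroup.subset_closure (by simp)

theorem wordsOKB (S : SettingB ga gb gc gd ge) :
    letI := commGroupOfCentral (⊥ : Subgroup Γ) bot_central
    haveI := smulCommB (ga := ga) (gb := gb) (gc := gc) (gd := gd)
    WordsOK CB.Ev (ltw ([] : List (⊥ : Subgroup Γ))) (fun x => (gl5 ga gb gc gd ge x)⁻¹)
      (((1 : Γ) : Γ ⧸ Subgroup.closure {ga, gb, gc, gd})) CB.words 555 := by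
  let _ := commGroupOfCentral (⊥ : Subgroup Γ) bot_central
  intro w wd r hget
  have hm := WT.get_mem CB.words w (wd, r) hget
  obtain ⟨h1, h2⟩ := CB.words_mem _ hm
  refine ⟨fun hr => ?_, fun hr hw => ?_, fun hr => ?_⟩
  · have hA := S.rel_all wd (h1 hr)
    refine ⟨1, fun q => ?_⟩
    rw [act_inv']
    change (wv5 ga gb gc gd ge wd)⁻¹ • q = _
    rw [hA, inv_one, one_smul, one_smul]
  · subst hr
    intro q
    rw [act_inv']
    have hA := S.rel_all wd (h1 rfl)
    change (wv5 ga gb gc gd ge wd)⁻¹ • q = _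
    rw [hA, inv_one, one_smul]
    change q = (1 : (⊥ : Subgroup Γ)) • q
    rw [one_smul]
  · have hsub := h2 hr
    rw [act_inv']
    have hmem := sub_memB (ga := ga) (gb := gb) (gc := gc) (gd := gd) (ge := ge) wd hsub
    rw [MulAction.Quotient.smul_mk, QuotientGroup.eq]
    simpa using hmem

end main

section final

variable {Γ : Type*} [Group Γ] {ga gb gc gd ge : Γ}

/-- **Main theorem of the second certificate.** -/
theorem glueB (S : SettingB ga gb gc gd ge) :
    Finite (Γ ⧸ Subgroup.closure {ga, gb, gc, gd}) ∧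
      Nat.card (Γ ⧸ Subgroup.closure {ga, gb, gc, gd}) ≤ 47104 := by
  let _ := commGroupOfCentral (⊥ : Subgroup Γ) bot_central
  have := smulCommB (ga := ga) (gb := gb) (gc := gc) (gd := gd)
  set Q := Γ ⧸ Subgroup.closure {ga, gb, gc, gd} with hQ
  set q0 : Q := ((1 : Γ) : Q) with hq0
  set tw : List ℤ → (⊥ : Subgroup Γ) := ltw ([] : List (⊥ : Subgroup Γ)) with htw_def
  set γ : ℕ → Γ := fun x => (gl5 ga gb gc gd ge x)⁻¹ with hγ
  have htw : TwOK ladd (List.replicate 0 0) leq tw := ltw_ok _ 0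
  have hfree : ∀ (α β : (⊥ : Subgroup Γ)) (q : Q), α • q = β • q → α = β := by
    intro α β _ _
    apply Subtype.ext
    rw [Subgroup.mem_bot.mp α.2, Subgroup.mem_bot.mp β.2]
  have hw := wordsOKB S
  have hI := CB.run tw γ hfree htw q0 hw
  obtain ⟨c, hc0, -, hcov⟩ := covered CB.F CB.Ev 10 1048576 tw γ q0 CB.words 471040 47104 555
    hI CB.rows CB.rows_ok CB.rows_length (gens_topB S) letters_invB
  let f : Fin 47104 → Q := fun p => c p
  have hf : Function.Surjective f := by
    intro q
    obtain ⟨i, hi, α, -, rfl⟩ := hcov q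
    have hα : α = 1 := by
      apply Subtype.ext
      rw [Subgroup.mem_bot.mp α.2]
      rfl
    rw [hα, one_smul]
    exact ⟨⟨i, hi⟩, rfl⟩
  have hfinQ : Finite Q := Finite.of_surjective f hf
  refine ⟨hfinQ, ?_⟩
  have hcard := Nat.card_le_card_of_surjective f hf
  rwa [Nat.card_fin] at hcard

end final

end Cfsg.Agent.Lib.H6.Co2M
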