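import Cfsg.Agent.Lib.H6.McLM.Words

set_option autoImplicit false
set_option maxRecDepth 100000

/-!
# Letters and words for the Conway group `Co₂` (helper6, S2044)

Ten letters `0 … 9` for five marked elements `ga gb gc gd ge` of a group and their inverses.  The first eight letters are
the letters of `Lib/H6/McLM` (the McLaughlin group `⟨ga, gb, gc, gd⟩`).
-/

namespace Cfsg.Agent.Lib.H6.Co2M

open Subgroup

section

variable {Γ : Type*} [Group Γ] (ga gb gc gd ge : Γ)

/-- the letters -/
def gl5 (x : ℕ) : Γ :=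
  match x with
  | 0 => ga | 1 => ga⁻¹ | 2 => gb | 3 => gb⁻¹ | 4 => gc | 5 => gc⁻¹ | 6 => gd | 7 => gd⁻¹
  | 8 => ge | 9 => ge⁻¹ | _ => 1

/-- the value of a word -/
def wv5 (w : List ℕ) : Γ := (w.map (gl5 ga gb gc gd ge)).prod

theorem map_gl5 {L : Type*} [Group L] (f : Γ →* L) (i : ℕ) :
    f (gl5 ga gb gc gd ge i) = gl5 (f ga) (f gb) (f gc) (f gd) (f ge) i := by
  unfold gl5
  split <;> simp

theorem map_wv5 {L : Type*} [Group L] (f : Γ →* L) (w : List ℕ) :
    f (wv5 ga gb gc gd ge w) = wv5 (f ga) (f gb) (f gc) (f gd) (f ge) w := by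
  unfold wv5
  rw [map_list_prod, List.map_map]
  congr 1
  apply List.map_congr_left
  intro i _
  exact map_gl5 ga gb gc gd ge f i

theorem wv5_nil : wv5 ga gb gc gd ge [] = 1 := rfl

theorem wv5_cons (i : ℕ) (w : List ℕ) :
    wv5 ga gb gc gd ge (i :: w) = gl5 ga gb gc gd ge i * wv5 ga gb gc gd ge w := by
  unfold wv5
  rw [List.map_cons, List.prod_cons]

theorem wv5_append (u v : List ℕ) :
    wv5 ga gb gc gd ge (u ++ v) = wv5 ga gb gc gd ge u * wv5 ga gb gc gd ge v := by
  unfold wv5
  rw [List.map_append, List.prod_append]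

/-- a word in the first four generators -/
theorem wv5_eq_wv4 (w : List ℕ) (h : ∀ i ∈ w, i < 8) :
    wv5 ga gb gc gd ge w = McLM.wv ga gb gc gd w := by
  unfold wv5 McLM.wv
  congr 1
  apply List.map_congr_left
  intro i hi
  have := h i hi
  interval_cases i <;> rfl

theorem wv5_replicate8 (n : ℕ) : wv5 ga gb gc gd ge (List.replicate n 8) = ge ^ n := by
  unfold wv5
  rw [List.map_replicate, List.prod_replicate]
  rfl

theorem wv5_replicate9 (n : ℕ) : wv5 ga gb gc gd ge (List.replicate n 9) = ge⁻¹ ^ n := by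
  unfold wv5
  rw [List.map_replicate, List.prod_replicate]
  rfl

theorem gl5_mem (i : ℕ) : gl5 ga gb gc gd ge i ∈ closure ({ga, gb, gc, gd, ge} : Set Γ) := by
  have hx : ga ∈ closure ({ga, gb, gc, gd, ge} : Set Γ) := subset_closure (by simp)
  have hy : gb ∈ closure ({ga, gb, gc, gd, ge} : Set Γ) := subset_closure (by simp)
  have hz : gc ∈ closure ({ga, gb, gc, gd, ge} : Set Γ) := subset_closure (by simp)
  have ht : gd ∈ closure ({ga, gb, gc, gd, ge} : Set Γ) := subset_closure (by simp)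
  have hu : ge ∈ closure ({ga, gb, gc, gd, ge} : Set Γ) := subset_closure (by simp)
  unfold gl5
  split
  · exact hx
  · exact inv_mem hx
  · exact hy
  · exact inv_mem hy
  · exact hz
  · exact inv_mem hz
  · exact ht
  · exact inv_mem ht
  · exact hu
  · exact inv_mem hu
  · exact one_mem _

theorem wv5_mem (w : List ℕ) : wv5 ga gb gc gd ge w ∈ closure ({ga, gb, gc, gd, ge} : Set Γ) := by
  unfold wv5
  apply list_prod_mem
  intro g hg
  obtain ⟨i, -, rfl⟩ := List.mem_map.1 hg
  exact gl5_mem ga gb gc gd ge i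

theorem wv4_mem (w : List ℕ) : McLM.wv ga gb gc gd w ∈ closure ({ga, gb, gc, gd} : Set Γ) :=
  McLM.wv_mem ga gb gc gd w

/-- the inverse letter -/
def flip10 (x : ℕ) : ℕ :=
  match x with
  | 0 => 1 | 1 => 0 | 2 => 3 | 3 => 2 | 4 => 5 | 5 => 4 | 6 => 7 | 7 => 6 | 8 => 9 | 9 => 8 | k => k

/-- the inverse word -/
def invW10 (w : List ℕ) : List ℕ := (w.map flip10).reverse

theorem gl5_ge (i : ℕ) (h : 10 ≤ i) : gl5 ga gb gc gd ge i = 1 := by
  unfold gl5
  split <;> first | omega | rfl

theorem flip10_ge (i : ℕ) (h : 10 ≤ i) : flip10 i = i := by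
  unfold flip10
  split <;> omega

theorem gl5_flip10 (i : ℕ) : gl5 ga gb gc gd ge (flip10 i) = (gl5 ga gb gc gd ge i)⁻¹ := by
  by_cases h : i < 10
  · interval_cases i <;> simp [flip10, gl5]
  · rw [flip10_ge i (by omega), gl5_ge ga gb gc gd ge i (by omega), inv_one]

theorem wv5_invW10 (w : List ℕ) : wv5 ga gb gc gd ge (invW10 w) = (wv5 ga gb gc gd ge w)⁻¹ := by
  induction w with
  | nil => simp [invW10, wv5]
  | cons i w ih =>
    have h1 : invW10 (i :: w) = invW10 w ++ [flip10 i] := by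
      unfold invW10
      rw [List.map_cons, List.reverse_cons]
    rw [h1, wv5_append, ih, wv5_cons ga gb gc gd ge i w, mul_inv_rev]
    congr 1
    rw [wv5_cons, wv5_nil, mul_one, gl5_flip10]

theorem invW10_lt (w : List ℕ) (h : ∀ i ∈ w, i < 8) : ∀ i ∈ invW10 w, i < 8 := by
  intro i hi
  unfold invW10 at hi
  rw [List.mem_reverse, List.mem_map] at hi
  obtain ⟨j, hj, rfl⟩ := hi
  have := h j hj
  interval_cases j <;> decide

end

section sub

variable {G : Type*} [Group G] (am bm cm dm : G)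

/-- the subgroup `H = McL` generated by the first four marked elements -/
def HS4 : Subgroup G := closure {am, bm, cm, dm}

theorem am_mem4 : am ∈ HS4 am bm cm dm := subset_closure (by simp)
theorem bm_mem4 : bm ∈ HS4 am bm cm dm := subset_closure (by simp)
theorem cm_mem4 : cm ∈ HS4 am bm cm dm := subset_closure (by simp)
theorem dm_mem4 : dm ∈ HS4 am bm cm dm := subset_closure (by simp)

/-- the generators as elements of `H` -/
def aS : ↥(HS4 am bm cm dm) := ⟨am, am_mem4 am bm cm dm⟩
/-- the generators as elements of `H` -/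
def bS : ↥(HS4 am bm cm dm) := ⟨bm, bm_mem4 am bm cm dm⟩
/-- the generators as elements of `H` -/
def cS : ↥(HS4 am bm cm dm) := ⟨cm, cm_mem4 am bm cm dm⟩
/-- the generators as elements of `H` -/
def dS : ↥(HS4 am bm cm dm) := ⟨dm, dm_mem4 am bm cm dm⟩

end sub

end Cfsg.Agent.Lib.H6.Co2M
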