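import Cfsg.Agent.Lib.H6.Co2M.Main5
import Cfsg.Agent.Lib.H18.Co2H4T
import Cfsg.Agent.Lib.H18.Co2Rel
import Cfsg.Agent.Lib.H18.Co2GEN5

set_option autoImplicit false
set_option maxRecDepth 100000

/-!
# The data `Base5` for the five marked elements of `Co₂ = Stab(leechU)` (helper6, S2044)

Assembly of the pieces: helper18's transport of the McLaughlin data to `⟨aG, bG, cG, dG⟩` (H4T), helper18's relator
checks (GSX, GSREL), helper18's and helper22's generation (GEN5, on helper7's maximality of `McL` in `Co₂`), and the order of `Co₂`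
(helper27).
-/

namespace Cfsg.Agent.Lib.H6.Co2M

theorem base5_C2L : Base5 aG bG cG dG eG where
  base4 := Cfsg.Agent.Lib.H18.Co2M.base4_HS4
  rel5 := Cfsg.Agent.Lib.H18.Co2M.rel5_G
  ord7 := Cfsg.Agent.Lib.H18.Co2M.ord7_G
  ord11 := Cfsg.Agent.Lib.H18.Co2M.ord11_G
  fus := Cfsg.Agent.Lib.H18.Co2M.fus_G
  fcomm1 := Cfsg.Agent.Lib.H18.Co2M.fcomm1_G
  fcomm2 := Cfsg.Agent.Lib.H18.Co2M.fcomm2_G
  gen := Cfsg.Agent.Lib.H18.Co2M.gen5
  card := card_C2L

end Cfsg.Agent.Lib.H6.Co2M
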