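import Cfsg.Agent.Lib.H27.McLOut
import Cfsg.Agent.Lib.H6.Co2M.Defs

set_option autoImplicit false
set_option maxRecDepth 100000

/-!
# The five generators of the Conway group `Co₂` inside `Co₀` (helper6, S2044)

`C2L = Stab(leechU)` in helper27's `Co0`; helper27's generators `s d v c` of the McLaughlin group
`MC = Stab(leechV) ⊓ Stab(leechU)` and the sign change `t = ε_C` on the octad `C = {1,2,3,4,5,8,11,13}` (mask `10558`).
The five marked elements are `a b c` (generators of `U4(3)`, words in `s d v c`), `d = s` and `e = t * s` (order `11`).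
-/

namespace Cfsg.Agent.Lib.H6.Co2M

open Cfsg MulAction Cfsg.Agent.Lib.H28 Cfsg.Agent.Lib.H27 Cfsg.Agent.Lib.H27.Eng
open Cfsg.Agent.Lib.H27.McLOut Cfsg.Agent.Lib.H27.Co3GenData Cfsg.Agent.Lib.H27.McLOutData

/-- the group `Co₂` as a subgroup of `Co₀` -/
abbrev C2L : Subgroup Co0 := stabilizer Co0 Spor.leechU

theorem MC_le_C2L : MC ≤ C2L := inf_le_right

/-- the sign change on an octad disjoint from the two points of `leechU` -/
def wT : List Gen :=
  [Gen.mono [0, 1, 2, 3, 4, 5, 6, 7, 8, 9, 10, 11, 12, 13, 14, 15, 16, 17, 18, 19, 20, 21, 22, 23]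
    [0, 1, 2, 3, 4, 5, 6, 7, 8, 9, 10, 11, 12, 13, 14, 15, 16, 17, 18, 19, 20, 21, 22, 23] 10558]

theorem wT_ok : wT.all Gen.ok = true := by decide +kernel

theorem wT_fix : actWord wT uL = uL := by decide +kernel

theorem wT_mem : wordCo0 wT ∈ C2L := by
  rw [mem_stabilizer_iff, ← mkL_uL, mkL_of_mem uL_L]
  apply Subtype.ext
  rw [← actWord_spec wT wT_ok uL uL_L, wT_fix]

/-- the generators as elements of `C2L` -/
noncomputable def sC : ↥C2L := ⟨wordCo0 wD, MC_le_C2L wD_mem⟩
/-- the generators as elements of `C2L` -/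
noncomputable def dC : ↥C2L := ⟨wordCo0 wU, MC_le_C2L wU_mem⟩
/-- the generators as elements of `C2L` -/
noncomputable def vC : ↥C2L := ⟨wordCo0 wV, MC_le_C2L wV_mem⟩
/-- the generators as elements of `C2L` -/
noncomputable def cC : ↥C2L := ⟨wordCo0 wC, MC_le_C2L wC_mem⟩
/-- the generators as elements of `C2L` -/
noncomputable def tC : ↥C2L := ⟨wordCo0 wT, wT_mem⟩

/-- the words of `a b c` in the letters `s S d D v V c C` (`0 … 7`) -/
def aW27 : List ℕ := [0, 4, 6, 1, 7, 7, 1, 7, 0, 5, 0, 7, 1]
/-- the words of `a b c` in the letters `s S d D v V c C` (`0 … 7`) -/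
def bW27 : List ℕ := [4, 1, 6, 1, 7, 1, 1, 7, 7, 3, 1, 7]
/-- the words of `a b c` in the letters `s S d D v V c C` (`0 … 7`) -/
def cW27 : List ℕ := [6, 0, 4, 1, 3, 4, 0, 7, 4, 1, 5, 2, 1]

/-- the five marked elements of `C2L` -/
noncomputable def aG : ↥C2L := wv5 sC dC vC cC tC aW27
/-- the five marked elements of `C2L` -/
noncomputable def bG : ↥C2L := wv5 sC dC vC cC tC bW27
/-- the five marked elements of `C2L` -/
noncomputable def cG : ↥C2L := wv5 sC dC vC cC tC cW27
/-- the five marked elements of `C2L` -/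
noncomputable def dG : ↥C2L := sC
/-- the five marked elements of `C2L` -/
noncomputable def eG : ↥C2L := tC * sC

/-- the inclusion of `MC` -/
def incl : ↥MC →* ↥C2L := Subgroup.inclusion MC_le_C2L

theorem incl_sE : incl sE = sC := rfl
theorem incl_dE : incl dE = dC := rfl
theorem incl_vE : incl vE = vC := rfl
theorem incl_cE : incl cE = cC := rfl

theorem incl_injective : Function.Injective incl := Subgroup.inclusion_injective MC_le_C2L

end Cfsg.Agent.Lib.H6.Co2M
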