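import Cfsg.Agent.Lib.H6.Co2M.Defs
import Cfsg.Agent.Lib.H6.Co2M.CA.Run
import Cfsg.Agent.Lib.H6.Co2M.CA.Alg
import Cfsg.Agent.Lib.H6.Co2M.CA.Lists

set_option autoImplicit false
set_option maxRecDepth 100000

/-!
# The first monomial certificate of `Co₂` applied to a group with five marked elements (helper6, S2044)

`SettingA ga gb gc gd ge A`: the exact relators of the certificate `CA` hold for `ga gb gc gd ge`, the six symbol relators and
the three other central relators have values in the central subgroup `A`, which meets `⟨ga, gb, gc, gd⟩` trivially.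
Conclusion: these nine relators hold as well.  (The certificate is partial: it traces enough of the coset table to
evaluate the relators `e ^ 11`, `h e h⁻¹ = e ^ 3`, … a second time; the lattice of the resulting relations among the six
symbols has index `1`.)
-/

namespace Cfsg.Agent.Lib.H6.Co2M

open Cfsg.Agent.Lib.H17.CosetCert (WT act)
open Cfsg.Agent.Lib.H17.MonoCert
open Cfsg.Agent.Lib.H6.McLM (act_inv' commGroupOfCentral)

section

variable {Γ : Type*} [Group Γ] (ga gb gc gd ge : Γ)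

/-- the hypotheses -/
structure SettingA (A : Subgroup Γ) : Prop where
  central : A ≤ Subgroup.center Γ
  disj : ∀ x ∈ Subgroup.closure {ga, gb, gc, gd}, x ∈ A → x = 1
  exact : ∀ w ∈ CA.exactL, wv5 ga gb gc gd ge w = 1
  rel : ∀ w ∈ CA.symL ++ CA.cenL, wv5 ga gb gc gd ge w ∈ A

theorem wv5_pair : ∀ w ∈ CA.pairL, wv5 ga gb gc gd ge w = 1 := by
  intro w hw
  simp only [CA.pairL, List.mem_cons, List.not_mem_nil, or_false] at hw
  rcases hw with rfl | rfl | rfl | rfl | rfl | rfl | rfl | rfl | rfl | rfl <;> simp [wv5, gl5]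

variable {ga gb gc gd ge}

theorem SettingA.rel_all {A : Subgroup Γ} (S : SettingA ga gb gc gd ge A) :
    ∀ w ∈ CA.relL, wv5 ga gb gc gd ge w ∈ A := by
  intro w hw
  rcases CA.rel_cases w hw with h | h
  · rcases List.mem_append.mp h with h1 | h1
    · rw [S.exact w h1]; exact one_mem _
    · rw [wv5_pair ga gb gc gd ge w h1]; exact one_mem _
  · exact S.rel w h

end

section main

variable {Γ : Type*} [Group Γ] {ga gb gc gd ge : Γ} {A : Subgroup Γ}

open Classical in
/-- the inverse of the value of a word, as an element of `A` (`1` if the value is not in `A`) -/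
noncomputable def ρA5 (ga gb gc gd ge : Γ) (A : Subgroup Γ) (w : List ℕ) : A :=
  if h : wv5 ga gb gc gd ge w ∈ A then ⟨(wv5 ga gb gc gd ge w)⁻¹, A.inv_mem h⟩ else 1

theorem ρA5_coe (w : List ℕ) (h : wv5 ga gb gc gd ge w ∈ A) :
    ((ρA5 ga gb gc gd ge A w : A) : Γ) = (wv5 ga gb gc gd ge w)⁻¹ := by
  unfold ρA5
  rw [dif_pos h]

theorem smulCommA (S : SettingA ga gb gc gd ge A) :
    SMulCommClass Γ A (Γ ⧸ Subgroup.closure {ga, gb, gc, gd}) := by
  constructor
  intro x a q
  change x • ((a : Γ) • q) = (a : Γ) • (x • q)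
  rw [← mul_smul, ← mul_smul, Subgroup.mem_center_iff.mp (S.central a.2) x]

theorem free_of_settingA (S : SettingA ga gb gc gd ge A) (α β : A)
    (q : Γ ⧸ Subgroup.closure {ga, gb, gc, gd}) (h : α • q = β • q) : α = β := by
  induction q using Quotient.inductionOn' with
  | h x =>
    have h1 : (((α : Γ) * x : Γ) : Γ ⧸ Subgroup.closure {ga, gb, gc, gd}) = (((β : Γ) * x : Γ) : _) := h
    rw [QuotientGroup.eq] at h1
    have hc : ((α : Γ) * x)⁻¹ * ((β : Γ) * x) = (α : Γ)⁻¹ * (β : Γ) := by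
      have hcen : x⁻¹ * ((α : Γ)⁻¹ * (β : Γ)) = ((α : Γ)⁻¹ * (β : Γ)) * x⁻¹ :=
        Subgroup.mem_center_iff.mp (S.central (A.mul_mem (A.inv_mem α.2) β.2)) x⁻¹
      calc ((α : Γ) * x)⁻¹ * ((β : Γ) * x) = (x⁻¹ * ((α : Γ)⁻¹ * (β : Γ))) * x := by group
        _ = ((α : Γ)⁻¹ * (β : Γ)) * x⁻¹ * x := by rw [hcen]
        _ = (α : Γ)⁻¹ * (β : Γ) := by group
    rw [hc] at h1
    have h2 := S.disj _ h1 (A.mul_mem (A.inv_mem α.2) β.2)
    apply Subtype.ext
    exact inv_mul_eq_one.mp h2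

/-- the list of the symbol values -/
noncomputable def ζsA (ga gb gc gd ge : Γ) (A : Subgroup Γ) : List A := CA.symL.map (ρA5 ga gb gc gd ge A)

theorem sub_memA : ∀ wd ∈ CA.subL, (List.map (gl5 ga gb gc gd ge) wd).prod ∈
    Subgroup.closure {ga, gb, gc, gd} := by
  intro wd hsub
  simp only [CA.subL, List.mem_cons, List.not_mem_nil, or_false] at hsub
  rcases hsub with rfl | rfl | rfl | rfl
  · simp only [List.map_cons, List.map_nil, List.prod_cons, List.prod_nil, mul_one, gl5]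
    exact Subgroup.subset_closure (by simp)
  · simp only [List.map_cons, List.map_nil, List.prod_cons, List.prod_nil, mul_one, gl5]
    exact Subgroup.subset_closure (by simp)
  · simp only [List.map_cons, List.map_nil, List.prod_cons, List.prod_nil, mul_one, gl5]
    exact Subgroup.subset_closure (by simp)
  · simp only [List.map_cons, List.map_nil, List.prod_cons, List.prod_nil, mul_one, gl5]
    exact Subgroup.subset_closure (by simp)

theorem wordsOKA (S : SettingA ga gb gc gd ge A) :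
    letI := commGroupOfCentral A S.central
    haveI := smulCommA S
    WordsOK CA.Ev (ltw (ζsA ga gb gc gd ge A)) (fun x => (gl5 ga gb gc gd ge x)⁻¹)
      (((1 : Γ) : Γ ⧸ Subgroup.closure {ga, gb, gc, gd})) CA.words 552 := by
  let _ := commGroupOfCentral A S.central
  intro w wd r hget
  have hm := WT.get_mem CA.words w (wd, r) hget
  obtain ⟨h1, h2⟩ := CA.words_mem _ hm
  refine ⟨fun hr => ?_, fun hr hw => ?_, fun hr => ?_⟩
  · have hA := S.rel_all wd (h1 hr)
    refine ⟨⟨(wv5 ga gb gc gd ge wd)⁻¹, A.inv_mem hA⟩, fun q => ?_⟩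
    rw [act_inv']
    rfl
  · subst hr
    have hs := CA.seed_mem w hw
    unfold CA.seedChk at hs
    rw [hget] at hs
    simp only [decide_eq_true_eq] at hs
    intro q
    rw [act_inv']
    rcases CA.seed_cases _ hs with ⟨he, hmem⟩ | hz
    · simp only [] at he hmem
      have hv : wv5 ga gb gc gd ge wd = 1 := by
        rcases List.mem_append.mp hmem with h | h
        · exact S.exact wd h
        · exact wv5_pair ga gb gc gd ge wd h
      change (wv5 ga gb gc gd ge wd)⁻¹ • q = _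
      rw [hv, he, ltw_replicate_zero, inv_one, one_smul, one_smul]
    · simp only [CA.symL, CA.unitL, List.zip_cons_cons, List.zip_nil_right, List.mem_cons,
        Prod.mk.injEq, List.not_mem_nil, or_false] at hz
      have key : ∀ wd' (hwd : wd' ∈ CA.symL ++ CA.cenL) (e : List ℤ),
          ltw (ζsA ga gb gc gd ge A) e = ρA5 ga gb gc gd ge A wd' → wd = wd' → CA.Ev w = e →
          ((List.map (gl5 ga gb gc gd ge) wd).prod)⁻¹ • q = ltw (ζsA ga gb gc gd ge A) (CA.Ev w) • q := by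
        intro wd' hwd e he hw1 hw2
        rw [hw2, he, hw1]
        change _ = ((ρA5 ga gb gc gd ge A wd' : A) : Γ) • q
        rw [ρA5_coe wd' (S.rel wd' hwd)]
        rfl
      rcases hz with ⟨a, b⟩ | ⟨a, b⟩ | ⟨a, b⟩ | ⟨a, b⟩ | ⟨a, b⟩ | ⟨a, b⟩
      · exact key _ (by decide) _ (by simp [ζsA, CA.symL, ltw]) a b
      · exact key _ (by decide) _ (by simp [ζsA, CA.symL, ltw]) a b
      · exact key _ (by decide) _ (by simp [ζsA, CA.symL, ltw]) a b
      · exact key _ (by decide) _ (by simp [ζsA, CA.symL, ltw]) a b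
      · exact key _ (by decide) _ (by simp [ζsA, CA.symL, ltw]) a b
      · exact key _ (by decide) _ (by simp [ζsA, CA.symL, ltw]) a b
  · have hsub := h2 hr
    rw [act_inv']
    have hmem := sub_memA (ga := ga) (gb := gb) (gc := gc) (gd := gd) (ge := ge) wd hsub
    rw [MulAction.Quotient.smul_mk, QuotientGroup.eq]
    simpa using hmem

end main

/-- the positions of the symbol relators and of the other central relators in the word table -/
def idxA : List (List ℕ × ℕ) :=
  [([6, 9, 6, 9], 546), ([6, 6, 9, 7, 8, 8, 7, 9], 547), ([0, 8, 0, 8, 0, 8, 0, 8, 0, 8, 0, 8], 548),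
   ([6, 6, 6, 9, 9, 7, 8, 6, 8, 7, 9, 9], 549), ([6, 6, 6, 6, 9, 7, 7, 7, 8, 6, 6, 8, 7, 7, 7, 9], 550),
   ([0, 2, 7, 5, 8, 5, 5, 0, 3, 9, 9, 0, 7, 0, 6, 3], 551),
   ([0, 7, 4, 0, 7, 4, 6, 9, 0, 7, 4, 0, 7, 4, 8, 7], 552),
   ([0, 0, 3, 7, 7, 9, 7, 7, 5, 5, 5, 9, 1, 5, 2, 7], 553),
   ([0, 5, 5, 2, 5, 2, 4, 8, 1, 4, 9, 6, 5, 0, 9, 2], 554)]

theorem idxA_ok : ∀ p ∈ idxA, p.2 < 562 ∧ WT.get CA.words p.2 = some (p.1, true) := by
  decide +kernel

theorem idxA_all : ∀ w ∈ CA.symL ++ CA.cenL, ∃ p ∈ idxA, p.1 = w := by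
  decide

section final

variable {Γ : Type*} [Group Γ] {ga gb gc gd ge : Γ} {A : Subgroup Γ}

/-- **Main theorem of the first certificate**: the symbol relators and the other central relators hold. -/
theorem glueA (S : SettingA ga gb gc gd ge A) : ∀ w ∈ CA.symL ++ CA.cenL, wv5 ga gb gc gd ge w = 1 := by
  let _ := commGroupOfCentral A S.central
  have := smulCommA S
  set Q := Γ ⧸ Subgroup.closure {ga, gb, gc, gd} with hQ
  set q0 : Q := ((1 : Γ) : Q) with hq0
  set tw : List ℤ → A := ltw (ζsA ga gb gc gd ge A) with htw_def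
  set γ : ℕ → Γ := fun x => (gl5 ga gb gc gd ge x)⁻¹ with hγ
  have htw : TwOK ladd (List.replicate 6 0) leq tw := ltw_ok _ 6
  have hfree : ∀ (α β : A) (q : Q), α • q = β • q → α = β := free_of_settingA S
  have hw := wordsOKA S
  have hI := CA.run tw γ hfree htw q0 hw
  obtain ⟨-, c, hc0, -, hwords⟩ := hI
  -- the relations
  have hrel : ∀ p ∈ CA.relPairs, tw p.2.2 = 1 := by
    intro p hp
    have hchk := CA.rel_chk p hp
    unfold CA.relChk at hchk
    rcases h1 : WT.get CA.words p.1 with _ | ⟨wd1, r1⟩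
    · rw [h1] at hchk; exact absurd hchk (by simp)
    · rcases h2 : WT.get CA.words p.2.1 with _ | ⟨wd2, r2⟩
      · rw [h1, h2] at hchk
        cases r1 <;> exact absurd hchk (by simp)
      · rw [h1, h2] at hchk
        cases r1 with
        | false => exact absurd hchk (by simp)
        | true =>
          cases r2 with
          | false => exact absurd hchk (by simp)
          | true =>
            simp only [Bool.and_eq_true, decide_eq_true_eq] at hchk
            obtain ⟨⟨⟨hwd, hev⟩, hlt1⟩, hlt2⟩ := hchk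
            subst hwd
            have e1 := hwords p.1 hlt1 wd1 h1 q0
            have e2 := hwords p.2.1 hlt2 wd1 h2 q0
            have e3 : tw (CA.Ev p.1) = tw (CA.Ev p.2.1) := hfree _ _ q0 (e1.symm.trans e2)
            rw [hev, htw.add] at e3
            exact (mul_eq_left.mp e3.symm)
  -- the algebra
  have hζ : ζsA ga gb gc gd ge A = [ρA5 ga gb gc gd ge A [6, 9, 6, 9],
      ρA5 ga gb gc gd ge A [6, 6, 9, 7, 8, 8, 7, 9],
      ρA5 ga gb gc gd ge A [0, 8, 0, 8, 0, 8, 0, 8, 0, 8, 0, 8],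
      ρA5 ga gb gc gd ge A [6, 6, 6, 9, 9, 7, 8, 6, 8, 7, 9, 9],
      ρA5 ga gb gc gd ge A [6, 6, 6, 6, 9, 7, 7, 7, 8, 6, 6, 8, 7, 7, 7, 9],
      ρA5 ga gb gc gd ge A [0, 2, 7, 5, 8, 5, 5, 0, 3, 9, 9, 0, 7, 0, 6, 3]] := rfl
  have hR : ∀ v ∈ CA.relPairs.map (fun p => p.2.2), tw v = 1 := by
    intro v hv
    obtain ⟨p, hp, rfl⟩ := List.mem_map.mp hv
    exact hrel p hp
  rw [htw_def, hζ] at hR
  obtain ⟨hz0, hz1, hz2, hz3, hz4, hz5, -⟩ := CA.rel_alg _ _ _ _ _ _
    (hR _ (by decide))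
    (hR _ (by decide))
    (hR _ (by decide))
    (hR _ (by decide))
    (hR _ (by decide))
    (hR _ (by decide))
    (hR _ (by decide))
  have hm0 : ρA5 ga gb gc gd ge A [6, 9, 6, 9] = 1 := by simpa [ltw] using hz0
  have hm1 : ρA5 ga gb gc gd ge A [6, 6, 9, 7, 8, 8, 7, 9] = 1 := by simpa [ltw] using hz1
  have hm2 : ρA5 ga gb gc gd ge A [0, 8, 0, 8, 0, 8, 0, 8, 0, 8, 0, 8] = 1 := by simpa [ltw] using hz2
  have hm3 : ρA5 ga gb gc gd ge A [6, 6, 6, 9, 9, 7, 8, 6, 8, 7, 9, 9] = 1 := by simpa [ltw] using hz3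
  have hm4 : ρA5 ga gb gc gd ge A [6, 6, 6, 6, 9, 7, 7, 7, 8, 6, 6, 8, 7, 7, 7, 9] = 1 := by
    simpa [ltw] using hz4
  have hm5 : ρA5 ga gb gc gd ge A [0, 2, 7, 5, 8, 5, 5, 0, 3, 9, 9, 0, 7, 0, 6, 3] = 1 := by
    simpa [ltw] using hz5
  have hone : ∀ t : List ℤ, tw t = 1 := by
    intro t
    have hle : Subgroup.closure {a : A | a ∈ ζsA ga gb gc gd ge A} ≤ ⊥ := by
      rw [Subgroup.closure_le]
      intro b hb
      rw [hζ] at hb
      simp only [List.mem_cons, List.not_mem_nil, or_false, Set.mem_ofPred_eq] at hb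
      rcases hb with rfl | rfl | rfl | rfl | rfl | rfl
      · rw [hm0]; exact Subgroup.mem_bot.mpr rfl
      · rw [hm1]; exact Subgroup.mem_bot.mpr rfl
      · rw [hm2]; exact Subgroup.mem_bot.mpr rfl
      · rw [hm3]; exact Subgroup.mem_bot.mpr rfl
      · rw [hm4]; exact Subgroup.mem_bot.mpr rfl
      · rw [hm5]; exact Subgroup.mem_bot.mpr rfl
    exact Subgroup.mem_bot.mp (hle (ltw_mem_closure (ζsA ga gb gc gd ge A) t))
  -- the nine words
  intro w hw
  obtain ⟨p, hp, rfl⟩ := idxA_all w hw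
  obtain ⟨hlt, hget⟩ := idxA_ok p hp
  have e1 := hwords p.2 hlt p.1 hget q0
  rw [hone, one_smul, act_inv'] at e1
  have hmem : wv5 ga gb gc gd ge p.1 ∈ Subgroup.closure {ga, gb, gc, gd} := by
    have e2 : (((wv5 ga gb gc gd ge p.1)⁻¹ * 1 : Γ) : Q) = ((1 : Γ) : Q) := e1
    rw [QuotientGroup.eq] at e2
    simpa using e2
  exact S.disj _ hmem (S.rel _ hw)

end final

end Cfsg.Agent.Lib.H6.Co2M
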