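import Cfsg.Agent.Lib.H6.Co2M.Stem5
import Cfsg.Agent.Lib.H6.Co2M.GSDefs
import Cfsg.Agent.Lib.H27.StabTools
import Cfsg.Agent.Lib.H27.ConwayOrders
import Cfsg.Agent.Lib.H18.SchurTransport
import Cfsg.Agent.Lib.H20.Schur

set_option autoImplicit false
set_option maxRecDepth 100000

/-!
# The Schur multiplier of the Conway group `Co₂` is trivial, given the data `Base5` (helper6, S2044)
-/

namespace Cfsg.Agent.Lib.H6.Co2M

open Cfsg MulAction Cfsg.Agent.Lib.H28 Cfsg.Agent.Lib.H27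

theorem sqNorm_leechU5 : sqNorm (Spor.leechU : GolayPt → ℤ) = 32 := by decide +kernel

theorem card_C2L : Nat.card ↥C2L = 42305421312000 :=
  card_stab32 Spor.leechU sqNorm_leechU5

/-- the multiplier of the Conway group `Co₂` -/
theorem multiplier_Co2 (B : Base5 aG bG cG dG eG) : Cfsg.HasCyclicSchurMultiplier ↥Cfsg.Spor.Co2 1 := by
  have hfin : Finite ↥C2L := B.finite
  have h1 : Cfsg.HasCyclicSchurMultiplier ↥C2L 1 :=
    Cfsg.Agent.Lib.H20.hasCyclicSchurMultiplier_one_of_ker (fun Γ _ _ σ hσ => B.stem σ hσ)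
  exact Cfsg.Agent.Lib.H18.SchurTransport.hasSchurMultiplier_of_group_mulEquiv
    (stabSubEquiv Co0 Spor.leechU) h1

end Cfsg.Agent.Lib.H6.Co2M
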