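import Cfsg.Agent.Lib.H6.Co2M.Base5
import Cfsg.Agent.Lib.H6.Co2M.Core5
import Cfsg.Agent.Lib.H2.McLMLifts4
import Cfsg.Agent.Lib.H2.McLMBASEH

set_option autoImplicit false
set_option maxRecDepth 100000

/-!
# Finite stem extensions of a group with the `Co₂` data are trivial (helper6, S2044)

Restriction to `H = McL` (helper9's RESTRICT, helper2's LIFTS4) gives exact lifts of the first four generators up to
`Z₀ = ⟨W⟩`, `W ^ 3 = 1`; the fifth generator is lifted with order `11`; the two certificates (CORE5) give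
`ker σ = Z₀`; the fusion of two commuting elements of order `3` of `U4(3)` under an element of the normaliser of `U4(3)`
gives `W = 1`.
-/

namespace Cfsg.Agent.Lib.H6.Co2M

open Subgroup
open Cfsg.Agent.Lib.H17.M22M (pow_card_eq_one exists_lift_pow conj_eq_pow closure_lift_eq_top)
open Cfsg.Agent.Lib.H17.MonoModel

theorem f5_chk1 : checkWordM ((commW5 fuW fvW).map U43M.Model1.tabs) 0 540 = true := by
  decide +kernel

theorem f5_chk2 : checkWordM ((commW5 fuW fvW).map U43M.Model2.tabs) 8 540 = true := by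
  decide +kernel

theorem f5'_chk1 : checkWordM ((commW5 fuW' fvW').map U43M.Model1.tabs) 0 540 = true := by
  decide +kernel

theorem f5'_chk2 : checkWordM ((commW5 fuW' fvW').map U43M.Model2.tabs) 4 540 = true := by
  decide +kernel

variable {G : Type} [Group G] {am bm cm dm em : G}

/-- the kernel of a finite stem extension has exponent dividing `549421056000 = 2^18 * 3^6 * 5^3 * 23` -/
theorem Base5.ker_pow (B : Base5 am bm cm dm em) {Γ : Type*} [Group Γ] [Finite Γ] (σ : Γ →* G)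
    (hσ : Cfsg.IsStemExtension σ) : ∀ z ∈ σ.ker, z ^ 549421056000 = 1 := by
  intro z hz
  have h1 : z ^ 42305421312000 = 1 := by rw [← B.card]; exact pow_card_eq_one σ hσ hz
  set w := z ^ 549421056000 with hw
  have hwk : w ∈ σ.ker := pow_mem hz _
  have hw77 : w ^ 77 = 1 := by rw [hw, ← pow_mul]; exact h1
  have i7 : (zpowers am).index = 6043631616000 := by
    have := McLM.index_zpowers_mul B.card (by norm_num : Nat.Prime 7) B.a7 B.a_ne
    omega
  have i11 : (zpowers dm).index = 3845947392000 := by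
    have := McLM.index_zpowers_mul B.card (by norm_num : Nat.Prime 11) B.d11 B.d_ne
    omega
  have h7 : w ^ 11 = 1 :=
    Cfsg.Agent.Lib.H28.StemTools.eq_one_of_cyclic σ hσ am (pow_mem hwk 11) (n := 7)
      (by rw [← pow_mul]; exact hw77) (by rw [i7]; norm_num)
  have h11 : w ^ 7 = 1 :=
    Cfsg.Agent.Lib.H28.StemTools.eq_one_of_cyclic σ hσ dm (pow_mem hwk 7) (n := 11)
      (by rw [← pow_mul]; exact hw77) (by rw [i11]; norm_num)
  have d1 := orderOf_dvd_of_pow_eq_one h7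
  have d2 := orderOf_dvd_of_pow_eq_one h11
  have d5 : orderOf w ∣ Nat.gcd 11 7 := Nat.dvd_gcd d1 d2
  have d6 : Nat.gcd 11 7 = 1 := by norm_num
  rw [d6] at d5
  exact orderOf_eq_one_iff.1 (Nat.dvd_one.1 d5)

/-- the words in the first four generators, in the subgroup `H` -/
theorem coe_wvS (w : List ℕ) :
    ((McLM.wv (aS am bm cm dm) (bS am bm cm dm) (cS am bm cm dm) (dS am bm cm dm) w :
      ↥(HS4 am bm cm dm)) : G) = McLM.wv am bm cm dm w :=
  McLM.map_wv (HS4 am bm cm dm).subtype (aS am bm cm dm) (bS am bm cm dm) (cS am bm cm dm)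
    (dS am bm cm dm) w

/-- the words in the first three generators, in the subgroup `H` -/
theorem coe_wv3S (w : List ℕ) :
    ((U43M.wv (aS am bm cm dm) (bS am bm cm dm) (cS am bm cm dm) w : ↥(HS4 am bm cm dm)) : G) =
      U43M.wv am bm cm w :=
  U43M.map_wv (HS4 am bm cm dm).subtype (aS am bm cm dm) (bS am bm cm dm) (cS am bm cm dm) w

/-- finite stem extensions of a group with the `Co₂` data are injective -/
theorem Base5.stem (B : Base5 am bm cm dm em)
    {Γ : Type*} [Group Γ] [Finite Γ] (σ : Γ →* G) (hσ : Cfsg.IsStemExtension σ) :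
    σ.ker = ⊥ := by
  have hN := B.ker_pow σ hσ
  have hfinG := B.finite
  have B4 := B.base4
  have BH := Cfsg.Agent.Lib.H2.McLM.baseH B4
  obtain ⟨L, τ, hτ, hτσ⟩ := Cfsg.Agent.Lib.H9.McLM.stem_restrict σ hσ (HS4 am bm cm dm) B4.perfect
  obtain ⟨hs, hc, hd⟩ := hσ
  obtain ⟨a0, b0, c0, d0, ha0, hb0, hc0, hd0, hex0, hcen0, hd011, hgen0, hX0, hW03, hker0⟩ :=
    Cfsg.Agent.Lib.H2.Co2M.stem_lifts B4 BH τ hτ
  -- the lifts of the first four generators
  have ha : σ (a0 : Γ) = am := by rw [← hτσ a0, ha0]; rfl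
  have hb : σ (b0 : Γ) = bm := by rw [← hτσ b0, hb0]; rfl
  have hc' : σ (c0 : Γ) = cm := by rw [← hτσ c0, hc0]; rfl
  have hd' : σ (d0 : Γ) = dm := by rw [← hτσ d0, hd0]; rfl
  set a : Γ := (a0 : Γ) with haa
  set b : Γ := (b0 : Γ) with hbb
  set c : Γ := (c0 : Γ) with hcc
  set d : Γ := (d0 : Γ) with hdd
  have hcoe3 : ∀ w : List ℕ, ((U43M.wv a0 b0 c0 w : ↥L) : Γ) = U43M.wv a b c w :=
    fun w => U43M.map_wv L.subtype a0 b0 c0 w
  have hexP : ∀ w ∈ U43M.Cert.exactL ++ U43M.s1L, U43M.wv a b c w = 1 := by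
    intro w hw
    rw [← hcoe3 w, hex0 w hw]
    rfl
  have hcenP : ∀ w ∈ U43M.Cert.symL ++ U43M.Cert.cenL, ∀ i : Fin 3,
      U43M.wv a b c w * ![a, b, c] i = ![a, b, c] i * U43M.wv a b c w := by
    intro w hw i
    have h := congrArg (L.subtype) (hcen0 w hw i)
    rw [map_mul, map_mul] at h
    have e1 : L.subtype (U43M.wv a0 b0 c0 w) = U43M.wv a b c w := hcoe3 w
    have e2 : L.subtype (![a0, b0, c0] i) = ![a, b, c] i := by
      fin_cases i <;> rfl
    rw [e1, e2] at h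
    exact h
  have hX1 : U43M.wv a b c U43M.xW = 1 := by
    rw [← hcoe3, hX0]
    rfl
  set W : Γ := U43M.wv a b c U43M.yW with hW
  have hW3 : W ^ 3 = 1 := by
    have h := congrArg (L.subtype) hW03
    rw [map_pow, map_one] at h
    have e1 : L.subtype (U43M.wv a0 b0 c0 U43M.yW) = W := hcoe3 _
    rwa [e1] at h
  have hWk : W ∈ σ.ker := by
    have h0 : U43M.wv a0 b0 c0 U43M.yW ∈ τ.ker := by rw [hker0]; exact mem_zpowers _
    have h1 : τ (U43M.wv a0 b0 c0 U43M.yW) = 1 := MonoidHom.mem_ker.1 h0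
    rw [MonoidHom.mem_ker, hW, ← hcoe3, ← hτσ, h1]
    rfl
  set Z₀ : Subgroup Γ := zpowers W with hZ₀
  have hZker : Z₀ ≤ σ.ker := by
    rw [hZ₀, zpowers_le]
    exact hWk
  have hZ : Z₀ ≤ σ.ker ⊓ center Γ := le_inf hZker (hZker.trans hc)
  have hfinZ : Finite ↥Z₀ := McLM.finite_zpowers3 W hW3
  -- the subgroup generated by the four lifts is `L`
  have hLcl : closure ({a, b, c, d} : Set Γ) = L := by
    have h := Cfsg.Agent.Lib.H2.McLM.map_closure4 L.subtype a0 b0 c0 d0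
    rw [hgen0, ← MonoidHom.range_eq_map, Subgroup.range_subtype] at h
    exact h.symm
  have hinj : ∀ x ∈ closure ({a, b, c, d} : Set Γ), σ x = 1 → x ∈ Z₀ := by
    intro x hx hx1
    rw [hLcl] at hx
    have h1 : τ ⟨x, hx⟩ = 1 := by
      apply Subtype.ext
      rw [hτσ]
      exact hx1
    have h2 : (⟨x, hx⟩ : ↥L) ∈ zpowers (U43M.wv a0 b0 c0 U43M.yW) := by
      rw [← hker0]
      exact MonoidHom.mem_ker.2 h1
    obtain ⟨n, hn⟩ := mem_zpowers_iff.1 h2
    rw [hZ₀, mem_zpowers_iff]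
    refine ⟨n, ?_⟩
    have h3 := congrArg (L.subtype) hn
    rw [map_zpow] at h3
    have e1 : L.subtype (U43M.wv a0 b0 c0 U43M.yW) = W := hcoe3 _
    rw [e1] at h3
    exact h3
  -- the lift of the fifth generator
  obtain ⟨e, he', he11⟩ := exists_lift_pow σ hs hN (by norm_num : Nat.Coprime 11 549421056000) B.e11
  have hσ5 : ∀ w : List ℕ, σ (wv5 a b c d e w) = wv5 am bm cm dm em w := by
    intro w
    rw [map_wv5, ha, hb, hc', hd', he']
  have hfrob : wv5 a b c d e hW5 * e * (wv5 a b c d e hW5)⁻¹ = e ^ 3 :=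
    conj_eq_pow σ hc hN (by norm_num : Nat.Coprime 11 549421056000) he11
      (by rw [map_mul, map_mul, map_inv, map_pow, hσ5, he']; exact B.frob)
  have h4mem : ∀ w : List ℕ, (∀ i ∈ w, i < 8) → wv5 a b c d e w ∈ closure ({a, b, c, d} : Set Γ) := by
    intro w hw
    rw [wv5_eq_wv4 a b c d e w hw]
    exact wv4_mem a b c d w
  -- the exact relators of the certificates hold modulo `Z₀`
  have hconj : ∀ (p : List ℕ × List ℕ) (q : ℕ), Nat.Coprime q 549421056000 →
      (∀ i ∈ p.1, i < 8) → (∀ i ∈ p.2, i < 8) → wv5 am bm cm dm em p.1 ^ q = 1 →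
      wv5 am bm cm dm em (cjW5 p) = 1 → wv5 a b c d e (cjW5 p) ∈ Z₀ := by
    intro p q hq hl1 hl2 hord hrel
    rw [cjW5_val]
    have hG : em⁻¹ * wv5 am bm cm dm em p.1 * em * (wv5 am bm cm dm em p.2)⁻¹ = 1 := by
      rwa [cjW5_val] at hrel
    have hG2 : wv5 am bm cm dm em p.2 = em⁻¹ * wv5 am bm cm dm em p.1 * em := (mul_inv_eq_one.1 hG).symm
    apply Cfsg.Agent.Lib.H9.McLM.conj_mem σ hc Z₀ hZker hN hq
    · apply hinj _ (pow_mem (h4mem _ hl1) q)
      rw [map_pow, hσ5]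
      exact hord
    · apply hinj _ (pow_mem (h4mem _ hl2) q)
      rw [map_pow, hσ5, hG2]
      have e0 : em⁻¹ * wv5 am bm cm dm em p.1 * em = em⁻¹ * wv5 am bm cm dm em p.1 * em⁻¹⁻¹ := by
        rw [inv_inv]
      rw [e0, conj_pow, hord, mul_one, mul_inv_cancel]
    · rw [map_mul, map_mul, map_inv, hσ5, hσ5, he', hG2]
  have hex5 : ∀ w ∈ CA.exactL, wv5 a b c d e w ∈ Z₀ := by
    intro w hw
    rcases exact5_cases w hw with h | rfl | rfl | ⟨p, hp, rfl⟩
    · apply hinj _ (h4mem w h)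
      rw [hσ5]
      exact B.exactA w hw
    · rw [wv5_replicate8, he11]
      exact one_mem _
    · rw [(frob5_iff a b c d e).2 hfrob]
      exact one_mem _
    · obtain ⟨hl1, hl2⟩ := cjL5_lt p hp
      rcases List.mem_append.1 hp with h7 | h11
      · exact hconj p 7 (by norm_num) hl1 hl2 (B.ord7 p h7) (B.exactA _ hw)
      · exact hconj p 11 (by norm_num) hl1 hl2 (B.ord11 p h11) (B.exactA _ hw)
  have hcen5 : ∀ w ∈ CA.symL ++ CA.cenL, wv5 a b c d e w ∈ σ.ker ⊓ center Γ := by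
    intro w hw
    have hk : wv5 a b c d e w ∈ σ.ker := by
      rw [MonoidHom.mem_ker, hσ5]
      exact B.symA w hw
    exact ⟨hk, hc hk⟩
  have hgen : closure ({a, b, c, d, e} : Set Γ) = ⊤ :=
    closure_lift_eq_top σ hc hd {a, b, c, d, e} (by
      rw [Set.image_insert_eq, Set.image_insert_eq, Set.image_insert_eq, Set.image_insert_eq,
        Set.image_singleton, ha, hb, hc', hd', he']
      exact B.gen)
  have hH : Nat.card (closure ({σ a, σ b, σ c, σ d} : Set G)) = 898128000 := by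
    rw [ha, hb, hc', hd']
    exact B.cardH
  obtain ⟨-, hker⟩ := core5 σ hs B.card a b c d e Z₀ hZ hH hinj hex5 hcen5 hgen
  -- the fusion relation
  have hσ3 : ∀ w : List ℕ, (∀ i ∈ w, i < 6) → U43M.wv am bm cm w = wv5 am bm cm dm em w :=
    fun w hw => (wv5_eq_wv3 am bm cm dm em w hw).symm
  have hk : ∀ p ∈ fusL5, (wv5 a b c d e fgW)⁻¹ * wv5 a b c d e p.1 * wv5 a b c d e fgW *
      (wv5 a b c d e p.2)⁻¹ ∈ center Γ := by
    intro p hp
    apply hc
    rw [MonoidHom.mem_ker, ← fusW5_val, hσ5]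
    exact B.fus p hp
  have hkc : wv5 a b c d e fuW * wv5 a b c d e fvW * (wv5 a b c d e fuW)⁻¹ * (wv5 a b c d e fvW)⁻¹ ∈
      center Γ := by
    apply hc
    rw [MonoidHom.mem_ker, ← commW5_val, hσ5]
    exact B.fcomm1
  have e1 := McLM.comm_conj_eq (wv5 a b c d e fgW) _ _ _ _ (hk (fuW, fuW') (by decide))
    (hk (fvW, fvW') (by decide)) hkc
  rw [← commW5_val, ← commW5_val, wv5_eq_wv3 a b c d e _ (fcomm5_lt _ (by decide)),
    wv5_eq_wv3 a b c d e _ (fcomm5_lt _ (by decide))] at e1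
  -- the values of the two commutators
  have hval : ∀ w : List ℕ, (∀ x ∈ w, x < 6) → wv5 am bm cm dm em w = 1 → ∀ e1 e2 t : ℕ,
      (e2 : ZMod 12) = 4 * (t : ZMod 12) →
      checkWordM (w.map U43M.Model1.tabs) e1 540 = true →
      checkWordM (w.map U43M.Model2.tabs) e2 540 = true →
      (U43M.wv a b c w)⁻¹ = ((U43M.wv a b c U43M.xW)⁻¹) ^ e1 * (W⁻¹) ^ t := by
    intro w hw hG e1 e2 t he h1 h2
    have hG3 : U43M.wv am bm cm w = 1 := by rw [hσ3 w hw]; exact hG
    have hGS : U43M.wv (aS am bm cm dm) (bS am bm cm dm) (cS am bm cm dm) w = 1 := by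
      apply Subtype.ext
      rw [coe_wv3S, hG3]
      rfl
    exact McLM.word_val BH a b c hexP hcenP w hw (McLM.wvH_eq_one w hGS) e1 e2 t he h1 h2
  have v1 := hval _ (fcomm5_lt _ (by decide)) B.fcomm1 0 8 2 (by decide) f5_chk1 f5_chk2
  have v2 := hval _ (fcomm5_lt _ (by decide)) B.fcomm2 0 4 1 (by decide) f5'_chk1 f5'_chk2
  rw [e1, v2, hX1] at v1
  simp only [inv_one, pow_zero, one_mul, pow_one] at v1
  have hW1 : W = 1 := by
    have h2 : W⁻¹ ^ 2 = W⁻¹ * W⁻¹ := pow_two _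
    rw [h2] at v1
    have h3 : W⁻¹ = 1 := by
      have := mul_eq_left.1 v1.symm
      exact this
    exact inv_eq_one.1 h3
  rw [hker, hZ₀, hW1, zpowers_one_eq_bot]

end Cfsg.Agent.Lib.H6.Co2M
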